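import Mathlib

/-!
The alternating groups as generated by the three-cycles through two fixed points, and
Carmichael's relations `x i ^ 3`, `(x i * x j) ^ 2` for them as a universal property.
-/

set_option autoImplicit false
set_option linter.style.haveILetI false

open Equiv

namespace CfsgLib.AltPres54

variable {α : Type*} [DecidableEq α] [Fintype α]

/-- The three-cycle `a ↦ b ↦ i ↦ a`. -/
def tri (a b i : α) : Perm α := swap a b * swap b i

theorem tri_apply (a b i x : α) : tri a b i x = swap a b (swap b i x) := rfl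

theorem tri_a {a b i : α} (hab : a ≠ b) (hai : a ≠ i) : tri a b i a = b := by
  rw [tri_apply, swap_apply_of_ne_of_ne hab hai, swap_apply_left]

theorem tri_b {a b i : α} (hbi : b ≠ i) (hai : a ≠ i) : tri a b i b = i := by
  rw [tri_apply, swap_apply_left, swap_apply_of_ne_of_ne hai.symm hbi.symm]

theorem tri_i {a b i : α} : tri a b i i = a := by
  rw [tri_apply, swap_apply_right, swap_apply_right]

theorem tri_other {a b i x : α} (h1 : x ≠ a) (h2 : x ≠ b) (h3 : x ≠ i) : tri a b i x = x := by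
  rw [tri_apply, swap_apply_of_ne_of_ne h2 h3, swap_apply_of_ne_of_ne h1 h2]

theorem conj_tri (g : Perm α) (a b i : α) : g * tri a b i * g⁻¹ = tri (g a) (g b) (g i) := by
  rw [tri, tri, Equiv.swap_apply_apply, Equiv.swap_apply_apply]; group

theorem tri_rotate {a b i : α} (hab : a ≠ b) (hbi : b ≠ i) (hai : a ≠ i) :
    tri a b i = tri b i a := by
  ext x
  by_cases ha : x = a
  · subst ha; rw [tri_a hab hai, tri_i]
  by_cases hb : x = b
  · subst hb; rw [tri_b hbi hai, tri_a hbi hab.symm]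
  by_cases hi : x = i
  · subst hi; rw [tri_i, tri_b hai.symm hab.symm]
  rw [tri_other ha hb hi, tri_other hb hi ha]

theorem tri_inv {a b i : α} (hab : a ≠ b) (hbi : b ≠ i) (hai : a ≠ i) :
    (tri a b i)⁻¹ = tri b a i := by
  ext x
  rw [Perm.inv_eq_iff_eq]
  by_cases ha : x = a
  · subst ha; rw [tri_b hai hbi, tri_i]
  by_cases hb : x = b
  · subst hb; rw [tri_a hab.symm hbi, tri_a hab hai]
  by_cases hi : x = i
  · subst hi; rw [tri_i, tri_b hbi hai]
  rw [tri_other hb ha hi, tri_other ha hb hi]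

theorem sign_tri {a b i : α} (hab : a ≠ b) (hbi : b ≠ i) : Perm.sign (tri a b i) = 1 := by
  rw [tri, map_mul, Perm.sign_swap hab, Perm.sign_swap hbi]; rfl

theorem tri_pow_three {a b i : α} (hab : a ≠ b) (hbi : b ≠ i) (hai : a ≠ i) :
    tri a b i ^ 3 = 1 := by
  ext x
  rw [pow_succ, pow_two, Perm.mul_apply, Perm.mul_apply, Perm.one_apply]
  by_cases ha : x = a
  · subst ha; rw [tri_a hab hai, tri_b hbi hai, tri_i]
  by_cases hb : x = b
  · subst hb; rw [tri_b hbi hai, tri_i, tri_a hab hai]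
  by_cases hi : x = i
  · subst hi; rw [tri_i, tri_a hab hai, tri_b hbi hai]
  rw [tri_other ha hb hi, tri_other ha hb hi, tri_other ha hb hi]

theorem tri_mul_sq {a b i j : α} (hab : a ≠ b) (hbi : b ≠ i) (hai : a ≠ i)
    (hbj : b ≠ j) (haj : a ≠ j) (hij : i ≠ j) : (tri a b i * tri a b j) ^ 2 = 1 := by
  ext x
  rw [pow_two, Perm.mul_apply, Perm.mul_apply, Perm.mul_apply, Perm.one_apply]
  by_cases ha : x = a
  · subst ha
    rw [tri_a hab haj, tri_b hbi hai, tri_other (b := b) hai.symm hbi.symm hij, tri_i]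
  by_cases hb : x = b
  · subst hb
    rw [tri_b hbj haj, tri_other haj.symm hbj.symm hij.symm, tri_i, tri_a hab hai]
  by_cases hi : x = i
  · subst hi
    rw [tri_other ha hb hij, tri_i, tri_a hab haj, tri_b hbi hai]
  by_cases hj : x = j
  · subst hj
    rw [tri_i, tri_a hab hai, tri_b hbj haj, tri_other haj.symm hbj.symm hij.symm]
  rw [tri_other ha hb hj, tri_other ha hb hi, tri_other ha hb hj, tri_other ha hb hi]

/-- The even permutations moving only points of `S`. -/
def altOn (S : Finset α) : Subgroup (Perm α) where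
  carrier := {σ | Perm.sign σ = 1 ∧ ∀ x, x ∉ S → σ x = x}
  one_mem' := ⟨map_one _, fun _ _ => rfl⟩
  mul_mem' := fun {g h} hg hh => ⟨by rw [map_mul, hg.1, hh.1, one_mul],
    fun x hx => by rw [Perm.mul_apply, hh.2 x hx, hg.2 x hx]⟩
  inv_mem' := fun {g} hg => ⟨by rw [map_inv, hg.1, inv_one],
    fun x hx => by rw [Perm.inv_eq_iff_eq, hg.2 x hx]⟩

theorem mem_altOn {S : Finset α} {σ : Perm α} :
    σ ∈ altOn S ↔ Perm.sign σ = 1 ∧ ∀ x, x ∉ S → σ x = x := Iff.rfl

theorem altOn_mono {S T : Finset α} (h : S ⊆ T) : altOn S ≤ altOn T :=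
  fun _ hσ => ⟨hσ.1, fun x hx => hσ.2 x fun hx' => hx (h hx')⟩

theorem altOn_univ : altOn (Finset.univ : Finset α) = alternatingGroup α :=
  Subgroup.ext fun _ => ⟨fun h => h.1, fun h => ⟨h, fun x hx => absurd (Finset.mem_univ x) hx⟩⟩

theorem tri_mem_altOn {S : Finset α} {a b i : α} (ha : a ∈ S) (hb : b ∈ S) (hi : i ∈ S)
    (hab : a ≠ b) (hbi : b ≠ i) : tri a b i ∈ altOn S :=
  ⟨sign_tri hab hbi, fun x hx => tri_other (fun h => hx (h ▸ ha)) (fun h => hx (h ▸ hb))
    (fun h => hx (h ▸ hi))⟩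

theorem isThreeCycle_eq_tri {σ : Perm α} (h : σ.IsThreeCycle) {x : α} (hx : σ x ≠ x) :
    σ = tri x (σ x) (σ (σ x)) ∧ x ≠ σ (σ x) ∧ σ x ≠ σ (σ x) := by
  have h1 : σ x ≠ σ (σ x) := fun e => hx (σ.injective e.symm)
  have h3 : σ (σ (σ x)) = x := by
    have := pow_orderOf_eq_one σ
    rw [h.orderOf] at this
    exact Equiv.congr_fun this x
  have h2 : x ≠ σ (σ x) := by
    intro e
    exact hx (by nth_rewrite 2 [← h3]; rw [← e])
  refine ⟨?_, h2, h1⟩
  ext y
  by_cases e1 : y = x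
  · subst e1; rw [tri_a (Ne.symm hx) h2]
  by_cases e2 : y = σ x
  · subst e2; rw [tri_b h1 h2]
  by_cases e3 : y = σ (σ x)
  · subst e3; rw [tri_i, h3]
  rw [tri_other e1 e2 e3]
  have hsupp : ({x, σ x, σ (σ x)} : Finset α) = σ.support := by
    apply Finset.eq_of_subset_of_card_le
    · intro z hz
      simp only [Finset.mem_insert, Finset.mem_singleton] at hz
      rw [Perm.mem_support]
      rcases hz with rfl | rfl | rfl
      · exact hx
      · exact h1.symm
      · rw [h3]; exact h2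
    · rw [h.card_support, Finset.card_insert_of_notMem (by simp [Ne.symm hx, h2]),
        Finset.card_pair h1]
  have : y ∉ σ.support := by rw [← hsupp]; simp [e1, e2, e3]
  exact Perm.notMem_support.1 this

/-- Three-cycles through two fixed points generate. -/
theorem altOn_le_closure {S : Finset α} {a b : α} (ha : a ∈ S) (hb : b ∈ S) (hab : a ≠ b) :
    altOn S ≤ Subgroup.closure {σ | ∃ i ∈ S, i ≠ a ∧ i ≠ b ∧ σ = tri a b i} := by
  set K := Subgroup.closure {σ | ∃ i ∈ S, i ≠ a ∧ i ≠ b ∧ σ = tri a b i} with hK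
  have g0 : ∀ i ∈ S, i ≠ a → i ≠ b → tri a b i ∈ K := fun i h1 h2 h3 =>
    Subgroup.subset_closure ⟨i, h1, h2, h3, rfl⟩
  have g1 : ∀ i ∈ S, i ≠ a → i ≠ b → tri b a i ∈ K := fun i h1 h2 h3 => by
    rw [← tri_inv hab h3.symm h2.symm]; exact K.inv_mem (g0 i h1 h2 h3)
  -- three-cycles through `b`
  have gb : ∀ i ∈ S, ∀ j ∈ S, i ≠ a → i ≠ b → j ≠ a → j ≠ b → i ≠ j → tri b i j ∈ K := by
    intro i hi j hj i1 i2 j1 j2 hij
    have e := conj_tri (tri a b i) a b j
    rw [tri_a hab i1.symm, tri_b i2.symm i1.symm, tri_other j1 j2 hij.symm] at e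
    rw [← e]
    exact K.mul_mem (K.mul_mem (g0 i hi i1 i2) (g0 j hj j1 j2)) (K.inv_mem (g0 i hi i1 i2))
  -- any three-cycle avoiding `a`, `b`
  have gn : ∀ x ∈ S, ∀ y ∈ S, ∀ z ∈ S, x ≠ a → x ≠ b → y ≠ a → y ≠ b → z ≠ a → z ≠ b →
      x ≠ y → y ≠ z → x ≠ z → tri x y z ∈ K := by
    intro x hx y hy z hz x1 x2 y1 y2 z1 z2 hxy hyz hxz
    have e := conj_tri (tri a b x) b y z
    rw [tri_b x2.symm x1.symm, tri_other y1 y2 hxy.symm, tri_other z1 z2 hxz.symm] at e
    rw [← e]
    exact K.mul_mem (K.mul_mem (g0 x hx x1 x2) (gb y hy z hz y1 y2 z1 z2 hyz))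
      (K.inv_mem (g0 x hx x1 x2))
  -- any three-cycle
  have all : ∀ x ∈ S, ∀ y ∈ S, ∀ z ∈ S, x ≠ y → y ≠ z → x ≠ z → tri x y z ∈ K := by
    have ga : ∀ i ∈ S, ∀ j ∈ S, i ≠ a → i ≠ b → j ≠ a → j ≠ b → i ≠ j → tri a i j ∈ K := by
      intro i hi j hj i1 i2 j1 j2 hij
      have e := conj_tri (tri b a i) b a j
      rw [tri_a hab.symm i2.symm, tri_b i1.symm i2.symm, tri_other j2 j1 hij.symm] at e
      rw [← e]
      exact K.mul_mem (K.mul_mem (g1 i hi i1 i2) (g1 j hj j1 j2)) (K.inv_mem (g1 i hi i1 i2))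
    have first : ∀ y ∈ S, ∀ z ∈ S, y ≠ z → y ≠ a → z ≠ a → tri a y z ∈ K := by
      intro y hy z hz hyz hy1 hz1
      by_cases y2 : y = b
      · subst y2; exact g0 z hz hz1 hyz.symm
      by_cases z2 : z = b
      · subst z2
        rw [tri_rotate hy1.symm hyz hz1.symm, tri_rotate hyz hz1 hy1]
        exact g1 y hy hy1 y2
      exact ga y hy z hz hy1 y2 hz1 z2 hyz
    have second : ∀ y ∈ S, ∀ z ∈ S, y ≠ z → y ≠ a → z ≠ a → y ≠ b → z ≠ b → tri b y z ∈ K :=
      fun y hy z hz h y1 z1 y2 z2 => gb y hy z hz y1 y2 z1 z2 h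
    intro x hx y hy z hz hxy hyz hxz
    by_cases x1 : x = a
    · subst x1; exact first y hy z hz hyz hxy.symm hxz.symm
    by_cases y1 : y = a
    · subst y1
      rw [tri_rotate hxy hyz hxz]
      exact first z hz x hx hxz.symm hyz.symm hxy
    by_cases z1 : z = a
    · subst z1
      rw [tri_rotate hxy hyz hxz, tri_rotate hyz hxz.symm hxy.symm]
      exact first x hx y hy hxy hxz hyz
    by_cases x2 : x = b
    · subst x2; exact second y hy z hz hyz y1 z1 hxy.symm hxz.symm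
    by_cases y2 : y = b
    · subst y2
      rw [tri_rotate hxy hyz hxz]
      exact second z hz x hx hxz.symm z1 x1 hyz.symm hxy
    by_cases z2 : z = b
    · subst z2
      rw [tri_rotate hxy hyz hxz, tri_rotate hyz hxz.symm hxy.symm]
      exact second x hx y hy hxy x1 y1 hxz hyz
    exact gn x hx y hy z hz x1 x2 y1 y2 z1 z2 hxy hyz hxz
  intro σ hσ
  let σ' : Perm S := σ.subtypePerm fun x => by
    constructor
    · intro h
      by_contra h'
      rw [hσ.2 x h'] at h
      exact h' h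
    · intro h
      by_contra h'
      have e := hσ.2 _ h'
      rw [σ.injective e] at h'
      exact h' h
  have hof : Perm.ofSubtype σ' = σ :=
    Perm.ofSubtype_subtypePerm _ fun x hx => by_contra fun h => hx (hσ.2 x h)
  have hs : σ' ∈ alternatingGroup (S : Finset α) := by
    rw [Perm.mem_alternatingGroup, ← Perm.sign_ofSubtype, hof]; exact hσ.1
  rw [← Perm.closure_three_cycles_eq_alternating] at hs
  have hle : Subgroup.closure {τ : Perm S | τ.IsThreeCycle} ≤ K.comap Perm.ofSubtype := by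
    rw [Subgroup.closure_le]
    intro τ hτ
    obtain ⟨x, hx⟩ : ∃ x, τ x ≠ x := by
      by_contra h
      push_neg at h
      exact Perm.IsCycle.ne_one hτ.isCycle (Equiv.ext h)
    obtain ⟨e, h2, h1⟩ := isThreeCycle_eq_tri hτ hx
    rw [SetLike.mem_coe, Subgroup.mem_comap, e, tri, map_mul, Perm.ofSubtype_swap_eq,
      Perm.ofSubtype_swap_eq]
    exact all _ x.2 _ (τ x).2 _ (τ (τ x)).2 (fun h => hx (Subtype.ext h.symm))
      (fun h => h1 (Subtype.ext h)) (fun h => h2 (Subtype.ext h))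
  have := hle hs
  rwa [Subgroup.mem_comap, hof] at this

/-- The inductive step of Carmichael's presentation: faithfulness of the first coordinate. -/
theorem fst_injective_on {G : Type*} [Group G] {a b : α} (hab : a ≠ b) (y : α → Perm α × G) :
    ∀ S : Finset α, (∀ i ∈ S, i ≠ a ∧ i ≠ b) →
      (∀ i ∈ S, (y i).1 = tri a b i) → (∀ i ∈ S, y i ^ 3 = 1) →
      (∀ i ∈ S, ∀ j ∈ S, i ≠ j → (y i * y j) ^ 2 = 1) →
      ∀ q ∈ Subgroup.closure (y '' (S : Set α)), q.1 = 1 → q = 1 := by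
  intro S
  induction S using Finset.induction with
  | empty =>
    intro _ _ _ _ q hq _
    rw [Finset.coe_empty, Set.image_empty, Subgroup.closure_empty, Subgroup.mem_bot] at hq
    exact hq
  | @insert m S hm ih =>
    intro hne hf h3 h2 q hq hq1
    have hS : ∀ {i}, i ∈ S → i ∈ insert m S := fun h => Finset.mem_insert_of_mem h
    have hmS : m ∈ insert m S := Finset.mem_insert_self _ _
    set K := Subgroup.closure (y '' (S : Set α)) with hKdef
    have hyK : ∀ {i}, i ∈ S → y i ∈ K := fun h => Subgroup.subset_closure ⟨_, h, rfl⟩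
    set x := y m with hx
    have hx3 : x ^ 3 = 1 := h3 m hmS
    have hxx : x⁻¹ = x * x := inv_eq_of_mul_eq_one_right (by rw [← mul_assoc, ← pow_two, ← pow_succ, hx3])
    -- basic identities
    have sw : ∀ {i j}, i ∈ insert m S → j ∈ insert m S → i ≠ j →
        y i * y j = (y j)⁻¹ * (y i)⁻¹ := by
      intro i j hi hj hij
      rw [← mul_inv_rev, eq_inv_iff_mul_eq_one, ← pow_two]
      exact h2 i hi j hj hij
    have yi : ∀ {i}, i ∈ insert m S → (y i)⁻¹ = y i * y i := fun {i} hi =>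
      inv_eq_of_mul_eq_one_right (by rw [← mul_assoc, ← pow_two, ← pow_succ, h3 i hi])
    have hmi : ∀ {i}, i ∈ S → m ≠ i := fun h e => hm (e ▸ h)
    let U : Set (Perm α × G) := {g | g ∈ K ∨ (∃ k ∈ K, g = k * x) ∨ (∃ k ∈ K, g = k * x⁻¹) ∨
      ∃ k ∈ K, ∃ i ∈ S, g = k * x⁻¹ * y i}
    have hU1 : ∀ g ∈ U, g * x ∈ U := by
      rintro g (hg | ⟨k, hk, rfl⟩ | ⟨k, hk, rfl⟩ | ⟨k, hk, i, hi, rfl⟩)
      · exact Or.inr (Or.inl ⟨g, hg, rfl⟩)
      · exact Or.inr (Or.inr (Or.inl ⟨k, hk, by rw [mul_assoc, hxx]⟩))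
      · exact Or.inl (by rwa [inv_mul_cancel_right])
      · refine Or.inr (Or.inr (Or.inr ⟨k * (y i)⁻¹, K.mul_mem hk (K.inv_mem (hyK hi)), i, hi, ?_⟩))
        have e1 : x⁻¹ * y i * x = x * (y i)⁻¹ := by
          rw [mul_assoc, sw (hS hi) hmS (hmi hi).symm, ← hx, ← mul_assoc]
          congr 1
          rw [hxx]
          calc (x * x) * (x * x) = x * (x * x * x) := by group
            _ = x * x ^ 3 := by rw [pow_succ, pow_two]
            _ = x := by rw [hx3, mul_one]
        have e2 : x * (y i)⁻¹ = (y i)⁻¹ * x⁻¹ * y i := by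
          rw [yi (hS hi), ← mul_assoc, sw hmS (hS hi) (hmi hi), ← hx, yi (hS hi)]
        calc k * x⁻¹ * y i * x = k * (x⁻¹ * y i * x) := by group
          _ = _ := by rw [e1, e2]; group
    have hU2 : ∀ g ∈ U, ∀ j ∈ S, g * y j ∈ U := by
      rintro g (hg | ⟨k, hk, rfl⟩ | ⟨k, hk, rfl⟩ | ⟨k, hk, i, hi, rfl⟩) j hj
      · exact Or.inl (K.mul_mem hg (hyK hj))
      · refine Or.inr (Or.inr (Or.inl ⟨k * (y j)⁻¹, K.mul_mem hk (K.inv_mem (hyK hj)), ?_⟩))
        rw [mul_assoc, sw hmS (hS hj) (hmi hj), ← mul_assoc]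
      · exact Or.inr (Or.inr (Or.inr ⟨k, hk, j, hj, rfl⟩))
      · by_cases hij : i = j
        · subst hij
          refine Or.inr (Or.inl ⟨k * y i, K.mul_mem hk (hyK hi), ?_⟩)
          calc k * x⁻¹ * y i * y i = k * (x⁻¹ * (y i)⁻¹) := by rw [yi (hS hi)]; group
            _ = k * (y i * x) := by rw [sw (hS hi) hmS (hmi hi).symm]
            _ = _ := by group
        · refine Or.inr (Or.inr (Or.inr ⟨k * y j * (y i)⁻¹,
            K.mul_mem (K.mul_mem hk (hyK hj)) (K.inv_mem (hyK hi)), i, hi, ?_⟩))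
          have e2 : x * (y i)⁻¹ = (y i)⁻¹ * x⁻¹ * y i := by
            rw [yi (hS hi), ← mul_assoc, sw hmS (hS hi) (hmi hi), ← hx, yi (hS hi)]
          calc k * x⁻¹ * y i * y j = k * (x⁻¹ * (y i * y j)) := by group
            _ = k * ((x⁻¹ * (y j)⁻¹) * (y i)⁻¹) := by rw [sw (hS hi) (hS hj) hij]; group
            _ = k * (y j * (x * (y i)⁻¹)) := by rw [← sw (hS hj) hmS (hmi hj).symm, ← hx]; group
            _ = _ := by rw [e2]; group
    have hmono : ∀ g ∈ Submonoid.closure (y '' ((insert m S : Finset α) : Set α)), g ∈ U := by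
      intro g hg
      induction hg using Submonoid.closure_induction_right with
      | one => exact Or.inl K.one_mem
      | mul_right g hg z hz ih' =>
        obtain ⟨i, hi, rfl⟩ := hz
        rcases Finset.mem_insert.1 (Finset.mem_coe.1 hi) with rfl | hi
        · exact hU1 g ih'
        · exact hU2 g ih' i hi
    have hinv : ∀ g ∈ Submonoid.closure (y '' ((insert m S : Finset α) : Set α)),
        g⁻¹ ∈ Submonoid.closure (y '' ((insert m S : Finset α) : Set α)) := by
      intro g hg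
      induction hg using Submonoid.closure_induction with
      | mem z hz =>
        obtain ⟨i, hi, rfl⟩ := hz
        rw [yi (Finset.mem_coe.1 hi)]
        exact mul_mem (Submonoid.subset_closure ⟨i, hi, rfl⟩)
          (Submonoid.subset_closure ⟨i, hi, rfl⟩)
      | one => rw [inv_one]; exact one_mem _
      | mul u v _ _ hu hv => rw [mul_inv_rev]; exact mul_mem hv hu
    have hsub : q ∈ Submonoid.closure (y '' ((insert m S : Finset α) : Set α)) := by
      refine Subgroup.closure_induction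
        (p := fun g _ => g ∈ Submonoid.closure (y '' ((insert m S : Finset α) : Set α)))
        (fun z hz => Submonoid.subset_closure hz) (one_mem _)
        (fun u v _ _ hu hv => mul_mem hu hv) (fun u _ hu => hinv u hu) hq
    have hqU := hmono q hsub
    have hKm : ∀ k ∈ K, k.1 m = m := by
      intro k hk
      induction hk using Subgroup.closure_induction with
      | mem z hz =>
        obtain ⟨i, hi, rfl⟩ := hz
        rw [hf i (hS hi), tri_other (hne m hmS).1 (hne m hmS).2 (hmi hi)]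
      | one => rfl
      | mul u v _ _ hu hv => rw [Prod.fst_mul, Perm.mul_apply, hv, hu]
      | inv u _ hu => rw [Prod.fst_inv, Perm.inv_eq_iff_eq, hu]
    have ham : a ≠ m := (hne m hmS).1.symm
    have hbm : b ≠ m := (hne m hmS).2.symm
    have hx1 : x.1 = tri a b m := hf m hmS
    have hx2 : (x⁻¹).1 m = b := by
      rw [Prod.fst_inv, hx1, tri_inv hab hbm ham, tri_i]
    have fix : ∀ k ∈ K, ∀ r : Perm α × G, (k * r).1 = 1 → r.1 m = m := fun k hk r h => by
      have h' : k.1 (r.1 m) = m := Equiv.congr_fun h m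
      exact k.1.injective (h'.trans (hKm k hk).symm)
    rcases hqU with hqK | ⟨k, hk, rfl⟩ | ⟨k, hk, rfl⟩ | ⟨k, hk, i, hi, rfl⟩
    · exact ih (fun i hi => hne i (hS hi)) (fun i hi => hf i (hS hi)) (fun i hi => h3 i (hS hi))
        (fun i hi j hj => h2 i (hS hi) j (hS hj)) q hqK hq1
    · have := fix k hk x hq1
      rw [hx1, tri_i] at this
      exact absurd this ham
    · have := fix k hk _ hq1
      rw [hx2] at this
      exact absurd this hbm
    · rw [mul_assoc] at hq1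
      have := fix k hk _ hq1
      rw [Prod.fst_mul, Perm.mul_apply, hf i (hS hi),
        tri_other (hne m hmS).1 (hne m hmS).2 (hmi hi), hx2] at this
      exact absurd this hbm

/-- Carmichael: the relations define a homomorphism on the alternating group of `S`. -/
theorem exists_hom {G : Type*} [Group G] {S : Finset α} {a b : α} (ha : a ∈ S) (hb : b ∈ S)
    (hab : a ≠ b) (x : α → G) (h3 : ∀ i ∈ S, i ≠ a → i ≠ b → x i ^ 3 = 1)
    (h2 : ∀ i ∈ S, ∀ j ∈ S, i ≠ a → i ≠ b → j ≠ a → j ≠ b → i ≠ j → (x i * x j) ^ 2 = 1) :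
    ∃ φ : altOn S →* G, ∀ i (hi : i ∈ S) (_hia : i ≠ a) (hib : i ≠ b),
      φ ⟨tri a b i, tri_mem_altOn ha hb hi hab hib.symm⟩ = x i := by
  classical
  set S' := (S.erase a).erase b with hS'
  have hmem : ∀ {i}, i ∈ S' ↔ i ∈ S ∧ i ≠ a ∧ i ≠ b := fun {i} => by
    simp only [hS', Finset.mem_erase]; tauto
  let y : α → Perm α × G := fun i => (tri a b i, x i)
  set P := Subgroup.closure (y '' (S' : Set α)) with hP
  have hinj : ∀ q ∈ P, q.1 = 1 → q = 1 := by
    refine fst_injective_on hab y S' (fun i hi => (hmem.1 hi).2) (fun i _ => rfl) ?_ ?_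
    · intro i hi
      obtain ⟨h, h1, h2'⟩ := hmem.1 hi
      exact Prod.ext (tri_pow_three hab h2'.symm h1.symm) (h3 i h h1 h2')
    · intro i hi j hj hij
      obtain ⟨h, h1, h1'⟩ := hmem.1 hi
      obtain ⟨k, k1, k2⟩ := hmem.1 hj
      exact Prod.ext (tri_mul_sq hab h1'.symm h1.symm k2.symm k1.symm hij)
        (h2 i h j k h1 h1' k1 k2 hij)
  have hsurj : ∀ σ ∈ altOn S, ∃ q ∈ P, q.1 = σ := by
    intro σ hσ
    have hle : Subgroup.closure {σ | ∃ i ∈ S, i ≠ a ∧ i ≠ b ∧ σ = tri a b i} ≤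
        P.map (MonoidHom.fst _ _) := (Subgroup.closure_le _).2 (by
      rintro _ ⟨i, hi, h1, h2', rfl⟩
      exact ⟨y i, Subgroup.subset_closure ⟨i, hmem.2 ⟨hi, h1, h2'⟩, rfl⟩, rfl⟩)
    obtain ⟨q, hq, e⟩ := hle (altOn_le_closure ha hb hab hσ)
    exact ⟨q, hq, e⟩
  choose f hfP hf1 using fun σ : altOn S => hsurj σ σ.2
  have uniq : ∀ q ∈ P, ∀ r ∈ P, q.1 = r.1 → q = r := fun q hq r hr h =>
    mul_inv_eq_one.1 (hinj _ (P.mul_mem hq (P.inv_mem hr))
      (by rw [Prod.fst_mul, Prod.fst_inv, h, mul_inv_cancel]))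
  refine ⟨MonoidHom.mk' (fun σ => (f σ).2) fun σ τ => ?_, fun i hi h1 h2' => ?_⟩
  · rw [uniq (f (σ * τ)) (hfP _) (f σ * f τ) (P.mul_mem (hfP _) (hfP _))
      (by rw [hf1, Prod.fst_mul, hf1, hf1]; rfl)]
    rfl
  · change (f _).2 = x i
    rw [uniq _ (hfP _) (y i) (Subgroup.subset_closure ⟨i, hmem.2 ⟨hi, h1, h2'⟩, rfl⟩) (hf1 _)]

/-- Homomorphisms agreeing on the three-cycles through `a`, `b` agree. -/
theorem hom_ext {G : Type*} [Group G] {S : Finset α} {a b : α} (ha : a ∈ S) (hb : b ∈ S)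
    (hab : a ≠ b) (φ ψ : altOn S →* G)
    (h : ∀ i (hi : i ∈ S) (_hia : i ≠ a) (hib : i ≠ b),
      φ ⟨tri a b i, tri_mem_altOn ha hb hi hab hib.symm⟩ =
        ψ ⟨tri a b i, tri_mem_altOn ha hb hi hab hib.symm⟩) : φ = ψ := by
  refine MonoidHom.ext fun σ => ?_
  obtain ⟨s, hs, e⟩ := ((Subgroup.closure_le ((φ.eqLocus ψ).map (altOn S).subtype)).2 (by
    rintro _ ⟨i, hi, h1, h2, rfl⟩
    exact ⟨_, h i hi h1 h2, rfl⟩)) (altOn_le_closure ha hb hab σ.2)
  rw [← Subtype.ext e]
  exact hs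

end CfsgLib.AltPres54
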