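import Cfsg.Agent.AltPres54.Cert
import Cfsg.Agent.AltPres54.Cover

/-!
The degrees below 19.
-/

set_option autoImplicit false
set_option maxRecDepth 100000
set_option maxHeartbeats 2000000

open Equiv

namespace CfsgLib.AltPres54

/-- Certificate. -/
def certA5 : Cert 3 5 :=
  ⟨[(0, 1), (3, 4)], [(0, 4), (4, 2), (2, 1), (1, 3)], [], [], [(0, 1), (2, 3)], [(2, 3), (3, 4)],
    3, 2, 1, 0, 0, 1, 5,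
    [], [],
    [[], [], [0, 1, 1, 1, 1], [1, 1, 1, 0, 1], [0, 0, 1]],
    [],
    [],
    2098276, 1114212⟩

theorem certA5_ok : certA5.Ok where
  hp := by norm_num
  hp3 := by norm_num
  hn := by decide +kernel
  c_sq := by decide +kernel
  cover := by decide +kernel
  points := by decide +kernel
  ne := by decide +kernel
  cne := by decide +kernel
  v_even := by decide +kernel
  v_supp := by decide +kernel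
  g1_even := by decide +kernel
  g1_supp := by decide +kernel
  g_even := by decide +kernel
  g_supp := by decide +kernel
  f1_even := by decide +kernel
  f1_supp := by decide +kernel
  f1_sq := by decide +kernel
  vm := by decide +kernel
  cop := by decide +kernel
  comm := by decide +kernel
  conj := by decide +kernel
  exA := by decide +kernel
  exB := by decide +kernel
  tabs := by decide +kernel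
  genI := by decide +kernel
  genA := by decide +kernel
  genB := by decide +kernel

/-- Certificate. -/
def certS5 : Cert 3 5 :=
  ⟨[(1, 2)], [(0, 1), (1, 3), (3, 4), (4, 2)], [], [], [], [],
    0, 1, 3, 2, 0, 1, 5,
    [], [],
    [[], [], [0, 1, 0], [0, 0, 1], [0, 0, 1, 1, 0]],
    [],
    [],
    2228321, 1182722⟩

theorem certS5_ok : certS5.Ok where
  hp := by norm_num
  hp3 := by norm_num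
  hn := by decide +kernel
  c_sq := by decide +kernel
  cover := by decide +kernel
  points := by decide +kernel
  ne := by decide +kernel
  cne := by decide +kernel
  v_even := by decide +kernel
  v_supp := by decide +kernel
  g1_even := by decide +kernel
  g1_supp := by decide +kernel
  g_even := by decide +kernel
  g_supp := by decide +kernel
  f1_even := by decide +kernel
  f1_supp := by decide +kernel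
  f1_sq := by decide +kernel
  vm := by decide +kernel
  cop := by decide +kernel
  comm := by decide +kernel
  conj := by decide +kernel
  exA := by decide +kernel
  exB := by decide +kernel
  tabs := by decide +kernel
  genI := by decide +kernel
  genA := by decide +kernel
  genB := by decide +kernel

/-- Certificate. -/
def certA6 : Cert 3 6 :=
  ⟨[(1, 3), (4, 5)], [(0, 3), (3, 2)], [(0, 3), (3, 4)], [(2, 4), (4, 3)], [(0, 1), (2, 3)], [(0, 3), (3, 5), (5, 2), (2, 4)],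
    3, 0, 2, 1, 0, 1, 3,
    [], [],
    [[], [], [1], [0, 0, 1]],
    [[], [], [], [], [0, 0]],
    [[], [], [], [], [0, 0]],
    172032035, 172064833⟩

theorem certA6_ok : certA6.Ok where
  hp := by norm_num
  hp3 := by norm_num
  hn := by decide +kernel
  c_sq := by decide +kernel
  cover := by decide +kernel
  points := by decide +kernel
  ne := by decide +kernel
  cne := by decide +kernel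
  v_even := by decide +kernel
  v_supp := by decide +kernel
  g1_even := by decide +kernel
  g1_supp := by decide +kernel
  g_even := by decide +kernel
  g_supp := by decide +kernel
  f1_even := by decide +kernel
  f1_supp := by decide +kernel
  f1_sq := by decide +kernel
  vm := by decide +kernel
  cop := by decide +kernel
  comm := by decide +kernel
  conj := by decide +kernel
  exA := by decide +kernel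
  exB := by decide +kernel
  tabs := by decide +kernel
  genI := by decide +kernel
  genA := by decide +kernel
  genB := by decide +kernel

/-- Certificate. -/
def certS6 : Cert 3 6 :=
  ⟨[(0, 1), (2, 3), (4, 5)], [(1, 2), (2, 3)], [(0, 3), (3, 4)], [(0, 3), (3, 4)], [], [],
    3, 0, 1, 2, 0, 1, 3,
    [], [],
    [[], [], [0, 1], [0, 0, 1, 1]],
    [[], [], [], [], [0, 0]],
    [[], [], [], [], [0]],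
    172002368, 172032035⟩

theorem certS6_ok : certS6.Ok where
  hp := by norm_num
  hp3 := by norm_num
  hn := by decide +kernel
  c_sq := by decide +kernel
  cover := by decide +kernel
  points := by decide +kernel
  ne := by decide +kernel
  cne := by decide +kernel
  v_even := by decide +kernel
  v_supp := by decide +kernel
  g1_even := by decide +kernel
  g1_supp := by decide +kernel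
  g_even := by decide +kernel
  g_supp := by decide +kernel
  f1_even := by decide +kernel
  f1_supp := by decide +kernel
  f1_sq := by decide +kernel
  vm := by decide +kernel
  cop := by decide +kernel
  comm := by decide +kernel
  conj := by decide +kernel
  exA := by decide +kernel
  exB := by decide +kernel
  tabs := by decide +kernel
  genI := by decide +kernel
  genA := by decide +kernel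
  genB := by decide +kernel

/-- Certificate. -/
def certA7 : Cert 5 7 :=
  ⟨[(1, 5), (2, 4)], [(0, 1), (1, 2), (2, 6), (6, 3)], [], [], [(0, 1), (2, 3)], [(0, 1), (1, 5), (5, 3), (3, 4)],
    0, 3, 5, 2, 0, 1, 5,
    [], [],
    [[], [], [0, 0, 0, 1, 1, 0, 1, 1, 0, 0, 0, 0], [0, 0, 1, 1, 0, 1, 1], [0, 0, 0, 0, 1, 0, 0, 1, 1, 0, 0, 0], [0, 1, 1, 0, 0, 1, 0], [1, 0, 1, 1, 0, 1, 0, 0]],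
    [],
    [],
    3393198145, 3361736741⟩

theorem certA7_ok : certA7.Ok where
  hp := by norm_num
  hp3 := by norm_num
  hn := by decide +kernel
  c_sq := by decide +kernel
  cover := by decide +kernel
  points := by decide +kernel
  ne := by decide +kernel
  cne := by decide +kernel
  v_even := by decide +kernel
  v_supp := by decide +kernel
  g1_even := by decide +kernel
  g1_supp := by decide +kernel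
  g_even := by decide +kernel
  g_supp := by decide +kernel
  f1_even := by decide +kernel
  f1_supp := by decide +kernel
  f1_sq := by decide +kernel
  vm := by decide +kernel
  cop := by decide +kernel
  comm := by decide +kernel
  conj := by decide +kernel
  exA := by decide +kernel
  exB := by decide +kernel
  tabs := by decide +kernel
  genI := by decide +kernel
  genA := by decide +kernel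
  genB := by decide +kernel

/-- Certificate. -/
def certS7 : Cert 5 7 :=
  ⟨[(1, 6), (2, 4), (3, 5)], [(0, 5), (5, 1), (1, 2), (2, 3)], [], [], [], [],
    5, 4, 3, 0, 0, 1, 5,
    [], [],
    [[], [], [1, 0, 1, 0, 1, 1, 1, 0, 1, 0, 1], [1, 0, 0, 1, 1, 1, 0, 1, 1], [0, 1, 1, 1, 0, 1, 1, 0, 0, 0, 1, 0], [0, 0, 1, 0, 1, 0, 0, 1, 0, 1], [0, 1, 0, 0, 0, 1, 1, 1, 0, 1, 1, 0]],
    [],
    [],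
    6480202821, 4300408867⟩

theorem certS7_ok : certS7.Ok where
  hp := by norm_num
  hp3 := by norm_num
  hn := by decide +kernel
  c_sq := by decide +kernel
  cover := by decide +kernel
  points := by decide +kernel
  ne := by decide +kernel
  cne := by decide +kernel
  v_even := by decide +kernel
  v_supp := by decide +kernel
  g1_even := by decide +kernel
  g1_supp := by decide +kernel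
  g_even := by decide +kernel
  g_supp := by decide +kernel
  f1_even := by decide +kernel
  f1_supp := by decide +kernel
  f1_sq := by decide +kernel
  vm := by decide +kernel
  cop := by decide +kernel
  comm := by decide +kernel
  conj := by decide +kernel
  exA := by decide +kernel
  exB := by decide +kernel
  tabs := by decide +kernel
  genI := by decide +kernel
  genA := by decide +kernel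
  genB := by decide +kernel

/-- Certificate. -/
def certA8 : Cert 5 8 :=
  ⟨[(2, 3), (6, 7)], [(0, 4), (4, 1), (1, 5), (5, 3)], [(1, 4), (2, 6)], [(1, 4), (2, 6)], [(0, 1), (2, 3)], [(0, 2), (2, 6), (6, 4), (1, 3), (3, 7), (7, 5)],
    5, 2, 1, 0, 0, 1, 5,
    [[(1, 4), (2, 5)]], [[(0, 2), (2, 4)]],
    [[], [], [1, 0, 1, 1, 0, 0, 1], [0, 0, 1, 1, 0, 0, 1], [0, 0, 0, 1, 1, 1, 0, 1, 0, 0], [0, 0, 1, 1, 0, 1, 1]],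
    [[], [], [], [], [], [], [1, 0]],
    [[], [], [], [], [], [], [0, 1, 0]],
    247062333604, 247028875428⟩

theorem certA8_ok : certA8.Ok where
  hp := by norm_num
  hp3 := by norm_num
  hn := by decide +kernel
  c_sq := by decide +kernel
  cover := by decide +kernel
  points := by decide +kernel
  ne := by decide +kernel
  cne := by decide +kernel
  v_even := by decide +kernel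
  v_supp := by decide +kernel
  g1_even := by decide +kernel
  g1_supp := by decide +kernel
  g_even := by decide +kernel
  g_supp := by decide +kernel
  f1_even := by decide +kernel
  f1_supp := by decide +kernel
  f1_sq := by decide +kernel
  vm := by decide +kernel
  cop := by decide +kernel
  comm := by decide +kernel
  conj := by decide +kernel
  exA := by decide +kernel
  exB := by decide +kernel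
  tabs := by decide +kernel
  genI := by decide +kernel
  genA := by decide +kernel
  genB := by decide +kernel

/-- Certificate. -/
def certS8 : Cert 5 8 :=
  ⟨[(1, 3), (2, 4), (6, 7)], [(0, 5), (5, 2), (2, 3), (3, 1)], [(2, 3), (3, 6)], [(2, 3), (3, 6)], [], [],
    5, 3, 0, 4, 0, 1, 5,
    [[(2, 5), (5, 3)]], [[(0, 2), (2, 3)]],
    [[], [], [0, 1, 0, 1, 1, 1, 0], [1, 1, 0, 0, 1, 0, 1, 1], [1, 0, 0, 1, 0, 0, 1, 1, 0], [1, 1, 0, 1, 0, 0, 0]],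
    [[], [], [], [], [], [], [1, 0]],
    [[], [], [], [], [], [], [1, 0, 0]],
    247031958533, 247095887973⟩

theorem certS8_ok : certS8.Ok where
  hp := by norm_num
  hp3 := by norm_num
  hn := by decide +kernel
  c_sq := by decide +kernel
  cover := by decide +kernel
  points := by decide +kernel
  ne := by decide +kernel
  cne := by decide +kernel
  v_even := by decide +kernel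
  v_supp := by decide +kernel
  g1_even := by decide +kernel
  g1_supp := by decide +kernel
  g_even := by decide +kernel
  g_supp := by decide +kernel
  f1_even := by decide +kernel
  f1_supp := by decide +kernel
  f1_sq := by decide +kernel
  vm := by decide +kernel
  cop := by decide +kernel
  comm := by decide +kernel
  conj := by decide +kernel
  exA := by decide +kernel
  exB := by decide +kernel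
  tabs := by decide +kernel
  genI := by decide +kernel
  genA := by decide +kernel
  genB := by decide +kernel

/-- Certificate. -/
def certA9 : Cert 7 9 :=
  ⟨[(0, 6), (2, 8), (3, 4), (5, 7)], [(0, 3), (3, 5), (5, 6), (6, 2), (2, 1), (1, 4)], [], [], [(0, 1), (2, 3), (4, 5), (6, 7)], [(0, 6), (6, 5), (5, 4), (4, 3), (3, 8), (8, 1)],
    6, 1, 4, 7, 0, 1, 7,
    [], [],
    [[], [], [1, 1, 0, 0, 1, 1, 0, 1, 0, 0, 1, 0, 0, 1, 0, 0, 1, 0, 0, 0, 0, 0, 0, 0, 0, 1, 1, 1, 1, 1, 1, 1, 1, 1, 1, 1, 1, 0, 0, 0, 0, 0, 0, 0, 0, 0, 0, 0, 0, 1, 1, 1, 1, 1, 1, 1, 1, 1, 1, 1, 1, 1, 1, 0, 0, 1, 1, 0, 1, 0, 0, 1, 0, 0, 1, 0, 0, 1, 0, 0, 0, 0, 0, 0, 0, 0, 1, 1, 1, 1, 1, 1, 1, 1, 1, 1, 1, 1, 0, 0, 0, 0, 0, 0, 0, 0, 0, 0, 0, 0, 1, 1, 1, 1, 1, 1, 1, 1, 1, 1, 1, 1], [0, 0, 0, 1, 1,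 0, 1, 0, 0, 1, 0, 0, 1, 0, 0, 1, 0, 0, 0, 0, 0, 0, 0, 0, 1, 1, 1, 1, 1, 1, 1, 1, 1, 1, 1, 1, 0, 0, 0, 0, 0, 0, 0, 0, 0, 0, 0, 0, 0, 0, 0, 0, 0, 0], [1, 0, 0, 0, 1, 1, 1, 1, 0, 0, 1, 0, 0, 1, 0, 0, 1, 0, 0, 1, 1, 1, 1, 1, 1, 1, 1, 1, 1, 1, 1, 1, 1, 1, 1, 1, 1, 0, 0, 0, 0, 0, 0, 0, 0, 0, 0, 0, 0, 0, 0, 0, 0, 0, 0, 1, 1, 1, 1, 1, 1], [0, 0, 0, 0, 0, 0, 1, 0, 0, 1, 0, 0, 1, 0, 0, 1, 0, 0, 0, 0, 0, 0, 0, 0, 0, 0, 0, 0, 0, 0, 0, 0, 0, 0, 0, 0, 0, 0, 0, 0, 0, 0, 0, 0, 0, 0, 0, 0, 0, 0, 0, 0, 0, 0], [0, 0, 0, 0, 1, 0, 0, 1, 0, 0, 1, 0, 0, 1, 0, 0, 0, 0, 0, 0, 0, 0, 0, 0, 0, 0, 0, 0, 0, 0, 0, 0, 0, 0, 0, 0, 0, 0, 0, 0], [0, 0, 0, 1, 0, 0, 0, 1, 0, 0, 1, 0, 0, 1, 0, 0, 1, 0, 0, 0, 0, 0, 0, 0, 0, 0, 0, 0, 0, 0, 0, 0, 0, 0, 0, 0, 0, 1, 1, 1, 1, 1, 1, 0, 0, 0, 0, 0, 0, 0,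 0, 0, 0, 0, 0, 0, 0, 0, 0, 0, 0], [1, 1, 1, 1, 1, 0, 0, 1, 0, 0, 1, 0, 0, 1, 0, 0, 1, 1, 1, 1, 1, 1, 1, 1, 1, 1, 1, 1, 1, 1, 1, 1, 1, 1, 1, 1, 1, 1, 1, 1]],
    [],
    [],
    9038960166019, 1103981906024⟩

theorem certA9_ok : certA9.Ok where
  hp := by norm_num
  hp3 := by norm_num
  hn := by decide +kernel
  c_sq := by decide +kernel
  cover := by decide +kernel
  points := by decide +kernel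
  ne := by decide +kernel
  cne := by decide +kernel
  v_even := by decide +kernel
  v_supp := by decide +kernel
  g1_even := by decide +kernel
  g1_supp := by decide +kernel
  g_even := by decide +kernel
  g_supp := by decide +kernel
  f1_even := by decide +kernel
  f1_supp := by decide +kernel
  f1_sq := by decide +kernel
  vm := by decide +kernel
  cop := by decide +kernel
  comm := by decide +kernel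
  conj := by decide +kernel
  exA := by decide +kernel
  exB := by decide +kernel
  tabs := by decide +kernel
  genI := by decide +kernel
  genA := by decide +kernel
  genB := by decide +kernel

/-- Certificate. -/
def certS9 : Cert 7 9 :=
  ⟨[(0, 8), (2, 3), (5, 6)], [(1, 4), (4, 5), (5, 2), (2, 6), (6, 7), (7, 8)], [], [], [], [],
    6, 5, 2, 1, 0, 1, 7,
    [], [],
    [[], [], [0, 0, 1, 0, 1, 0, 0, 0, 1, 0, 0, 0, 0, 0, 1, 0, 0, 0, 0, 0, 1, 0, 0, 0, 0, 0, 1, 0, 0, 0, 0, 0, 0, 0, 0, 0, 1, 1, 1, 1, 1, 1, 0, 0, 0, 0, 0, 0, 1, 1, 1, 1, 1, 1, 0, 0, 0, 0, 0, 0, 0, 0, 0, 0, 0, 0, 0, 0, 1, 0, 1, 0, 0, 0, 1, 0, 0, 0, 0, 0, 1, 0, 0, 0, 0, 0, 1, 0, 0, 0, 0, 0, 1, 0, 0, 0, 0, 0, 0, 0, 0, 0, 1, 1, 1, 1, 1, 1, 0, 0, 0, 0, 0, 0, 1, 1, 1, 1, 1, 1, 0, 0, 0, 0, 0, 0, 0, 0,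 0, 0, 0, 0], [0, 1, 0, 1, 0, 0, 0, 0, 0, 1, 0, 0, 0, 0, 0, 1, 0, 0, 0, 0, 0, 1, 0, 0, 0, 0, 0, 1, 0, 0, 0, 0, 0, 0, 0, 0, 0, 0, 0, 0, 0, 0, 0, 0, 0, 0, 0, 0, 0, 1, 1, 1, 1, 1, 1, 0, 0, 0, 0, 0, 0, 1, 1, 1, 1, 1, 1, 0, 0, 0, 0, 0, 0], [0, 0, 1, 0, 1, 0, 0, 0, 0, 1, 0, 0, 0, 0, 0, 1, 0, 0, 0, 0, 0, 1, 0, 0, 0, 0, 0, 1, 0, 0, 0, 0, 0, 0, 0, 0, 0, 0, 0, 0, 0, 0, 0, 1, 1, 1, 1, 1, 1, 0, 0, 0, 0, 0, 0, 1, 1, 1, 1, 1, 1, 0, 0, 0, 0, 0, 0, 0, 0, 0, 0, 0, 0, 0, 0, 1, 0, 1, 0, 0, 0, 0, 1, 0, 0, 0, 0, 0, 1, 0, 0, 0, 0, 0, 1, 0, 0, 0, 0, 0, 1, 0, 0, 0, 0, 0, 0, 0, 0, 0, 0, 0, 0, 0, 0, 0, 1, 1, 1, 1, 1, 1, 0, 0, 0, 0, 0, 0, 1, 1, 1, 1, 1, 1, 0, 0, 0, 0, 0, 0, 0, 0, 0, 0, 0, 0], [0, 1, 0, 0, 1, 0, 0, 0, 0, 0, 1, 0, 0, 0, 0, 0, 1, 0, 0, 0, 0, 0, 1, 0, 0, 0, 1, 1, 1, 1, 1, 1,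 0, 0, 0, 0, 0, 0], [1, 1, 0, 1, 0, 0, 0, 1, 0, 0, 0, 0, 0, 1, 0, 0, 0, 0, 0, 1, 0, 0, 0, 0, 0, 1, 0, 0, 0, 0, 0, 0, 0, 0, 0, 1, 1, 1, 1, 1, 1, 0, 0, 0, 0, 0, 0, 1, 1, 1, 1, 1, 1, 1, 1, 1, 1, 1, 1], [1, 0, 1, 1, 0, 1, 0, 0, 1, 0, 0, 0, 0, 0, 1, 0, 0, 0, 0, 0, 1, 0, 0, 0, 0, 0, 1, 0, 0, 0, 1, 1, 1, 1, 1, 1, 0, 0, 0, 0, 0, 0, 1, 1, 1, 1, 1, 1, 1, 1, 1, 1, 1, 1, 0, 0, 0, 0, 0, 0, 1, 1, 1, 1, 1, 1], [0, 1, 0, 1, 0, 0, 0, 0, 1, 0, 0, 0, 0, 0, 1, 0, 0, 0, 0, 0, 1, 0, 0, 0, 0, 0, 1, 0, 0, 0, 0, 0, 0, 0, 0, 0, 0, 0, 0, 0, 0, 0, 1, 1, 1, 1, 1, 1, 0, 0, 0, 0, 0, 0, 1, 1, 1, 1, 1, 1, 0, 0, 0, 0, 0, 0]],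
    [],
    [],
    1381978183808, 8799555586177⟩

theorem certS9_ok : certS9.Ok where
  hp := by norm_num
  hp3 := by norm_num
  hn := by decide +kernel
  c_sq := by decide +kernel
  cover := by decide +kernel
  points := by decide +kernel
  ne := by decide +kernel
  cne := by decide +kernel
  v_even := by decide +kernel
  v_supp := by decide +kernel
  g1_even := by decide +kernel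
  g1_supp := by decide +kernel
  g_even := by decide +kernel
  g_supp := by decide +kernel
  f1_even := by decide +kernel
  f1_supp := by decide +kernel
  f1_sq := by decide +kernel
  vm := by decide +kernel
  cop := by decide +kernel
  comm := by decide +kernel
  conj := by decide +kernel
  exA := by decide +kernel
  exB := by decide +kernel
  tabs := by decide +kernel
  genI := by decide +kernel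
  genA := by decide +kernel
  genB := by decide +kernel

/-- Certificate. -/
def certS10 : Cert 7 10 :=
  ⟨[(3, 7), (5, 6), (8, 9)], [(0, 3), (3, 2), (2, 6), (6, 1), (1, 5), (5, 4)], [(5, 7), (7, 8)], [(5, 7), (7, 8)], [], [],
    4, 7, 3, 6, 0, 1, 7,
    [[(0, 5), (5, 4)]], [],
    [[], [], [0, 0, 0, 1, 0, 0, 1, 1, 0, 1, 1, 1, 1, 0, 0, 1], [0, 0, 1, 0, 0, 0, 0, 0, 1, 1, 0, 0, 1, 1, 0, 0], [0, 0, 0, 0, 1, 1, 1, 1, 0, 1, 1, 0, 1, 1, 1, 0], [0, 1, 1, 1, 1, 0, 0, 1, 1, 1, 0, 1, 1], [0, 1, 1, 0, 1, 1, 1, 1, 0, 0, 1, 1, 1], [1, 0, 0, 0, 0, 1, 1, 1, 0, 1, 1, 1, 0, 0, 1, 1]],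
    [[], [], [], [], [], [], [], [], [1, 0, 1, 1]],
    [[], [], [], [], [], [], [], [], [0, 0]],
    325697168021667, 325528489923783⟩

theorem certS10_ok : certS10.Ok where
  hp := by norm_num
  hp3 := by norm_num
  hn := by decide +kernel
  c_sq := by decide +kernel
  cover := by decide +kernel
  points := by decide +kernel
  ne := by decide +kernel
  cne := by decide +kernel
  v_even := by decide +kernel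
  v_supp := by decide +kernel
  g1_even := by decide +kernel
  g1_supp := by decide +kernel
  g_even := by decide +kernel
  g_supp := by decide +kernel
  f1_even := by decide +kernel
  f1_supp := by decide +kernel
  f1_sq := by decide +kernel
  vm := by decide +kernel
  cop := by decide +kernel
  comm := by decide +kernel
  conj := by decide +kernel
  exA := by decide +kernel
  exB := by decide +kernel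
  tabs := by decide +kernel
  genI := by decide +kernel
  genA := by decide +kernel
  genB := by decide +kernel

/-- Certificate. -/
def certA11 : Cert 7 11 :=
  ⟨[(0, 2), (4, 6), (7, 9), (8, 10)], [(1, 6), (6, 2), (2, 5), (5, 3)], [(6, 8), (8, 7)], [(6, 8), (8, 7)], [(0, 1), (2, 3), (4, 5), (6, 7)], [(0, 2), (2, 4), (4, 7), (7, 10), (10, 5), (5, 9), (9, 3), (3, 6), (6, 8), (8, 1)],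
    0, 1, 5, 2, 0, 1, 5,
    [[(0, 1), (1, 6)]], [[(0, 5), (5, 6)]],
    [[], [], [0, 0, 1, 0, 0, 0, 0, 1, 0, 1, 0, 1, 1], [1, 0, 0, 1, 0, 0, 0, 0, 1, 0, 0], [0, 0, 0, 0, 1, 1, 0, 0, 1, 1, 0, 0], [1, 0, 1, 0, 0, 1, 0, 1, 1, 1, 1], [0, 0, 0, 0, 1, 0, 0, 1, 1, 0, 0, 0]],
    [[], [], [], [], [], [], [], [0, 0, 1, 0, 0, 0, 0], [0, 1, 0, 0]],
    [[], [], [], [], [], [], [], [0, 0, 1, 0, 0, 0, 0, 0, 0, 1, 0, 0, 0, 0], [0, 1, 0, 0, 0, 1, 0, 0]],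
    11584697280795840, 11584701571565701⟩

theorem certA11_ok : certA11.Ok where
  hp := by norm_num
  hp3 := by norm_num
  hn := by decide +kernel
  c_sq := by decide +kernel
  cover := by decide +kernel
  points := by decide +kernel
  ne := by decide +kernel
  cne := by decide +kernel
  v_even := by decide +kernel
  v_supp := by decide +kernel
  g1_even := by decide +kernel
  g1_supp := by decide +kernel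
  g_even := by decide +kernel
  g_supp := by decide +kernel
  f1_even := by decide +kernel
  f1_supp := by decide +kernel
  f1_sq := by decide +kernel
  vm := by decide +kernel
  cop := by decide +kernel
  comm := by decide +kernel
  conj := by decide +kernel
  exA := by decide +kernel
  exB := by decide +kernel
  tabs := by decide +kernel
  genI := by decide +kernel
  genA := by decide +kernel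
  genB := by decide +kernel

/-- Certificate. -/
def certS11 : Cert 7 11 :=
  ⟨[(0, 1), (2, 3), (5, 6), (7, 9), (8, 10)], [(1, 3), (3, 5), (5, 2), (2, 4)], [(3, 8), (6, 7)], [(3, 8), (6, 7)], [], [],
    0, 1, 3, 4, 0, 1, 5,
    [[(0, 1), (1, 3)], [(0, 1), (1, 6)]], [[(2, 3), (3, 4)], [(2, 4), (4, 6)]],
    [[], [], [1, 0, 0, 0, 1, 0, 0, 0, 0, 1], [1, 1, 0, 1, 0, 0, 0, 1, 0], [1, 1, 1, 0, 1, 1, 1, 1, 0, 0], [0, 0, 0, 0, 1, 1, 1, 0, 0, 1, 0, 1], [0, 0, 1, 0, 1, 1, 0, 0, 0, 1, 0]],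
    [[], [], [], [], [], [], [], [0, 2, 0], [0, 1, 0]],
    [[], [], [], [], [], [], [], [0, 2, 0], [0, 1, 0, 0, 1, 0]],
    11584701539192928, 11584698417551394⟩

theorem certS11_ok : certS11.Ok where
  hp := by norm_num
  hp3 := by norm_num
  hn := by decide +kernel
  c_sq := by decide +kernel
  cover := by decide +kernel
  points := by decide +kernel
  ne := by decide +kernel
  cne := by decide +kernel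
  v_even := by decide +kernel
  v_supp := by decide +kernel
  g1_even := by decide +kernel
  g1_supp := by decide +kernel
  g_even := by decide +kernel
  g_supp := by decide +kernel
  f1_even := by decide +kernel
  f1_supp := by decide +kernel
  f1_sq := by decide +kernel
  vm := by decide +kernel
  cop := by decide +kernel
  comm := by decide +kernel
  conj := by decide +kernel
  exA := by decide +kernel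
  exB := by decide +kernel
  tabs := by decide +kernel
  genI := by decide +kernel
  genA := by decide +kernel
  genB := by decide +kernel

/-- Certificate. -/
def certA12 : Cert 7 12 :=
  ⟨[(0, 5), (6, 9), (7, 10), (8, 11)], [(1, 5), (5, 4), (4, 3), (3, 2)], [(0, 7), (7, 6), (6, 8), (1, 4)], [(0, 7), (7, 6), (6, 8), (1, 4)], [(0, 1), (2, 3), (4, 5), (6, 7)], [(0, 5), (5, 10), (10, 3), (3, 9), (9, 2), (2, 6), (6, 8), (8, 1), (4, 7), (7, 11)],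
    2, 3, 1, 4, 0, 1, 5,
    [[(0, 2), (2, 3)]], [[(0, 1), (1, 4)]],
    [[], [], [0, 0, 0, 1, 0], [0, 0, 1, 1, 0], [0, 1, 1, 1, 0], [1, 1, 1, 1, 0]],
    [[], [], [], [], [], [], [0, 0, 1, 0, 0, 0, 0, 0, 0], [0, 1, 0, 0, 0], [0, 0, 0, 1, 0, 0, 0, 0, 0, 0, 0, 0, 0]],
    [[], [], [], [], [], [], [0, 0, 1, 0, 0, 0, 0, 0, 0], [0, 1, 0, 0, 0, 0, 1, 0, 0, 0], [0, 0, 0, 1, 0, 0, 0, 0, 0, 0, 0, 0, 0, 0, 0, 0, 1, 0, 0, 0, 0, 0, 0, 0, 0, 0]],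
    407901468816901280, 407901468850455556⟩

theorem certA12_ok : certA12.Ok where
  hp := by norm_num
  hp3 := by norm_num
  hn := by decide +kernel
  c_sq := by decide +kernel
  cover := by decide +kernel
  points := by decide +kernel
  ne := by decide +kernel
  cne := by decide +kernel
  v_even := by decide +kernel
  v_supp := by decide +kernel
  g1_even := by decide +kernel
  g1_supp := by decide +kernel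
  g_even := by decide +kernel
  g_supp := by decide +kernel
  f1_even := by decide +kernel
  f1_supp := by decide +kernel
  f1_sq := by decide +kernel
  vm := by decide +kernel
  cop := by decide +kernel
  comm := by decide +kernel
  conj := by decide +kernel
  exA := by decide +kernel
  exB := by decide +kernel
  tabs := by decide +kernel
  genI := by decide +kernel
  genA := by decide +kernel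
  genB := by decide +kernel

/-- Certificate. -/
def certS12 : Cert 7 12 :=
  ⟨[(0, 2), (3, 4), (6, 9), (7, 10), (8, 11)], [(1, 4), (4, 3), (3, 2), (2, 5)], [(2, 8), (8, 4), (4, 6), (6, 7)], [(2, 8), (8, 4), (4, 6), (6, 7)], [], [],
    2, 5, 4, 1, 0, 1, 5,
    [[(1, 2), (2, 4)], [(1, 2), (2, 5)], [(1, 4), (4, 5)], [(1, 2), (4, 5)]], [[(1, 2), (2, 3)], [(1, 3), (3, 4)]],
    [[], [], [1, 0, 1, 0, 0, 1, 1, 0, 1], [0, 1, 1, 1, 1, 0, 1, 0], [1, 0, 0, 1, 1, 1, 0], [1, 1, 0, 1, 0, 0, 1]],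
    [[], [], [], [], [], [], [1, 0, 3, 0, 0, 0, 0, 1, 1, 1, 0, 3, 0, 0, 0, 0, 1, 1], [4, 0, 0, 1, 0, 0, 0, 0, 0, 0, 0, 0, 4], [1, 0, 2, 0, 0, 0, 0, 1, 1, 1, 0, 2, 0, 0, 0, 0, 1, 1]],
    [[], [], [], [], [], [], [0, 2, 0, 0, 0, 0, 0, 2, 0, 0, 0, 0], [0, 0, 2, 0, 0, 0, 0, 0, 0, 0, 0, 0, 0, 2, 0, 0, 0, 0, 0, 0, 0, 0], [0, 1, 0, 0, 0, 0]],
    407901468716242048, 407901468713158757⟩

theorem certS12_ok : certS12.Ok where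
  hp := by norm_num
  hp3 := by norm_num
  hn := by decide +kernel
  c_sq := by decide +kernel
  cover := by decide +kernel
  points := by decide +kernel
  ne := by decide +kernel
  cne := by decide +kernel
  v_even := by decide +kernel
  v_supp := by decide +kernel
  g1_even := by decide +kernel
  g1_supp := by decide +kernel
  g_even := by decide +kernel
  g_supp := by decide +kernel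
  f1_even := by decide +kernel
  f1_supp := by decide +kernel
  f1_sq := by decide +kernel
  vm := by decide +kernel
  cop := by decide +kernel
  comm := by decide +kernel
  conj := by decide +kernel
  exA := by decide +kernel
  exB := by decide +kernel
  tabs := by decide +kernel
  genI := by decide +kernel
  genA := by decide +kernel
  genB := by decide +kernel

/-- Certificate. -/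
def certA13 : Cert 11 13 :=
  ⟨[(2, 10), (5, 8), (6, 12), (9, 11)], [(0, 11), (11, 5), (5, 7), (7, 4), (4, 8), (8, 1), (1, 6), (6, 10), (10, 9), (9, 3)], [], [], [(0, 1), (2, 3), (4, 5), (6, 7)], [(0, 2), (2, 5), (5, 12), (12, 7), (7, 11), (11, 4), (4, 6), (6, 9), (9, 1), (1, 10), (10, 3), (3, 8)],
    10, 11, 6, 2, 0, 1, 11,
    [], [],
    [[], [], [0, 0, 1, 1, 0, 1, 0, 0, 0, 1, 0, 0, 1, 0, 0, 1, 0, 0, 1, 0, 0, 0, 0, 0, 0, 0, 0, 0, 0, 0, 0, 0, 0, 0, 0, 0, 0, 0, 0, 0, 0, 0, 0, 0, 0, 0, 0, 0, 0, 0, 0, 1, 1, 1, 1, 1, 1, 1, 1, 1, 1, 0, 0, 0, 0, 0, 0, 0, 0, 0, 0, 1, 1, 1, 1, 1, 1, 1, 1, 1, 1, 1, 1, 1, 1, 1, 1, 1, 1, 1, 1, 0, 0, 0, 0, 0, 0, 0, 0, 0, 0, 0, 0, 0, 0, 0, 0, 0, 0, 0, 0], [0, 0, 1, 1, 0, 1, 1, 1, 0, 1, 0, 0, 1, 0, 0, 1, 0, 0, 1, 0, 0, 0, 0, 0, 0, 0, 0,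 0, 0, 0, 0, 1, 1, 1, 1, 1, 1, 1, 1, 1, 1, 1, 1, 1, 1, 1, 1, 1, 1, 1, 1, 1, 1, 1, 1, 1, 1, 1, 1, 1, 1, 0, 0, 0, 0, 0, 0, 0, 0, 0, 0, 1, 1, 1, 1, 1, 1, 1, 1, 1, 1, 1, 1, 1, 1, 1, 1, 1, 1, 1, 1, 0, 0, 0, 0, 0, 0, 0, 0, 0, 0, 0, 0, 0, 0, 0, 0, 0, 0, 0, 0, 0, 0, 1, 1, 0, 1, 1, 1, 0, 1, 0, 0, 1, 0, 0, 1, 0, 0, 1, 0, 0, 0, 0, 0, 0, 0, 0, 0, 0, 0, 0, 1, 1, 1, 1, 1, 1, 1, 1, 1, 1, 1, 1, 1, 1, 1, 1, 1, 1, 1, 1, 1, 1, 1, 1, 1, 1, 1, 1, 1, 1, 0, 0, 0, 0, 0, 0, 0, 0, 0, 0, 1, 1, 1, 1, 1, 1, 1, 1, 1, 1, 1, 1, 1, 1, 1, 1, 1, 1, 1, 1, 0, 0, 0, 0, 0, 0, 0, 0, 0, 0, 0, 0, 0, 0, 0, 0, 0, 0, 0, 0], [0, 0, 0, 1, 1, 1, 1, 0, 0, 1, 0, 0, 1, 0, 0, 1, 0, 0, 1, 1, 1, 1, 1, 1, 1, 1, 1, 1, 1, 1, 1, 1, 1, 1, 1, 1, 1, 1, 1, 1, 1, 1, 1, 1, 1, 1, 1, 1, 0, 0, 0, 0, 0, 0, 0, 0, 0, 0, 0, 0, 0,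 0, 0, 0, 0, 0, 0, 0, 0, 0, 0, 0, 0, 0, 0, 0, 0, 0], [1, 0, 1, 1, 0, 1, 1, 0, 0, 1, 0, 0, 1, 0, 0, 1, 0, 0, 1, 1, 1, 1, 1, 1, 1, 1, 1, 1, 0, 0, 0, 0, 0, 0, 0, 0, 0, 0, 1, 1, 1, 1, 1, 1, 1, 1, 1, 1, 1, 1, 1, 1, 1, 1, 1, 1, 1, 1, 0, 0, 0, 0, 0, 0, 0, 0, 0, 0, 1, 1, 1, 1, 1, 1, 1, 1, 1, 1], [0, 0, 1, 0, 0, 0, 1, 0, 0, 1, 0, 0, 1, 0, 0, 1, 0, 0, 0, 0, 0, 0, 0, 0, 0, 0, 0, 0, 0, 0, 0, 0, 0, 0, 0, 0, 0, 0, 0, 0, 0, 0, 0, 0, 0, 0, 0, 0, 1, 1, 1, 1, 1, 1, 1, 1, 1, 1, 0, 0, 0, 0, 0, 0, 0, 0, 0, 0, 0, 0, 0, 0, 0, 0, 0, 0, 0, 0], [0, 0, 0, 1, 0, 1, 1, 1, 0, 1, 0, 0, 1, 0, 0, 1, 0, 0, 1, 0, 0, 0, 0, 0, 0, 0, 0, 0, 0, 0, 0, 1, 1, 1, 1, 1, 1, 1, 1, 1, 1, 1, 1, 1, 1, 1, 1, 1, 1, 1, 1, 1, 1, 1, 1, 1, 1, 1, 1, 1, 1, 0, 0, 0, 0, 0, 0, 0, 0, 0, 0, 1, 1, 1, 1, 1, 1, 1, 1, 1, 1, 0,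 0, 0, 0, 0, 0, 0, 0, 0, 0, 0, 0, 0, 0, 0, 0, 0, 0, 0, 0, 0, 0, 0, 0, 0, 0, 0, 0, 0, 0], [0, 1, 1, 1, 0, 1, 1, 0, 0, 1, 0, 0, 1, 0, 0, 1, 0, 0, 1, 1, 1, 1, 1, 1, 1, 1, 1, 1, 0, 0, 0, 0, 0, 0, 0, 0, 0, 0, 1, 1, 1, 1, 1, 1, 1, 1, 1, 1, 1, 1, 1, 1, 1, 1, 1, 1, 1, 1, 1, 1, 1, 1, 1, 1, 1, 1, 1, 1, 0, 0, 0, 0, 0, 0, 0, 0, 0, 0, 0, 1, 1, 1, 0, 1, 1, 0, 0, 1, 0, 0, 1, 0, 0, 1, 0, 0, 1, 1, 1, 1, 1, 1, 1, 1, 1, 1, 0, 0, 0, 0, 0, 0, 0, 0, 0, 0, 1, 1, 1, 1, 1, 1, 1, 1, 1, 1, 1, 1, 1, 1, 1, 1, 1, 1, 1, 1, 1, 1, 1, 1, 1, 1, 1, 1, 1, 1, 0, 0, 0, 0, 0, 0, 0, 0, 0, 0], [1, 1, 0, 0, 0, 0, 1, 0, 0, 1, 0, 0, 1, 0, 0, 1, 0, 0, 0, 0, 0, 0, 0, 0, 0, 0, 0, 0, 0, 0, 0, 0, 0, 0, 0, 0, 0, 0, 0, 0, 0, 0, 0, 0, 0, 0, 0, 0, 0, 0, 0, 0, 0, 0, 0, 0, 0, 0, 1, 1, 1, 1, 1, 1, 1, 1, 1, 1, 1, 1,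 1, 1, 1, 1, 1, 1, 1, 1], [1, 0, 0, 1, 0, 0, 1, 0, 0, 1, 0, 0], [1, 0, 0, 0, 0, 0, 1, 1, 1, 0, 0, 1, 0, 0, 1, 0, 0, 1, 0, 0, 1, 1, 1, 1, 1, 1, 1, 1, 1, 1, 1, 1, 1, 1, 1, 1, 1, 1, 1, 1, 0, 0, 0, 0, 0, 0, 0, 0, 0, 0, 0, 0, 0, 0, 0, 0, 0, 0, 0, 0, 0, 0, 0, 0, 0, 0, 0, 0, 0, 0, 0, 0, 0, 0, 0, 0, 0, 0, 0, 0, 0, 0, 0, 0, 0, 0, 0, 0, 0, 0, 1, 1, 1, 1, 1, 1, 1, 1, 1, 1, 1, 0, 0, 0, 0, 0, 1, 1, 1, 0, 0, 1, 0, 0, 1, 0, 0, 1, 0, 0, 1, 1, 1, 1, 1, 1, 1, 1, 1, 1, 1, 1, 1, 1, 1, 1, 1, 1, 1, 1, 0, 0, 0, 0, 0, 0, 0, 0, 0, 0, 0, 0, 0, 0, 0, 0, 0, 0, 0, 0, 0, 0, 0, 0, 0, 0, 0, 0, 0, 0, 0, 0, 0, 0, 0, 0, 0, 0, 0, 0, 0, 0, 0, 0, 0, 0, 0, 0, 0, 0, 1, 1, 1, 1, 1, 1, 1, 1, 1, 1], [1, 0, 1, 1, 0, 0, 1, 1, 0, 0, 1, 0, 0, 1, 0, 0, 1, 0, 0, 1, 1, 1, 1, 1, 1, 1, 1, 1, 1, 0, 0, 0, 0, 0, 0,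 0, 0, 0, 0, 0, 0, 0, 0, 0, 0, 0, 0, 0, 0, 1, 1, 1, 1, 1, 1, 1, 1, 1, 1, 1, 1, 1, 1, 1, 1, 1, 1, 1, 1, 0, 0, 0, 0, 0, 0, 0, 0, 0, 0, 1, 1, 1, 1, 1, 1, 1, 1, 1, 1, 1, 0, 1, 1, 0, 0, 1, 1, 0, 0, 1, 0, 0, 1, 0, 0, 1, 0, 0, 1, 1, 1, 1, 1, 1, 1, 1, 1, 1, 0, 0, 0, 0, 0, 0, 0, 0, 0, 0, 0, 0, 0, 0, 0, 0, 0, 0, 0, 0, 1, 1, 1, 1, 1, 1, 1, 1, 1, 1, 1, 1, 1, 1, 1, 1, 1, 1, 1, 1, 0, 0, 0, 0, 0, 0, 0, 0, 0, 0, 1, 1, 1, 1, 1, 1, 1, 1, 1, 1]],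
    [],
    [],
    14025441940586105035, 2425477714817330569⟩

theorem certA13_ok : certA13.Ok where
  hp := by norm_num
  hp3 := by norm_num
  hn := by decide +kernel
  c_sq := by decide +kernel
  cover := by decide +kernel
  points := by decide +kernel
  ne := by decide +kernel
  cne := by decide +kernel
  v_even := by decide +kernel
  v_supp := by decide +kernel
  g1_even := by decide +kernel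
  g1_supp := by decide +kernel
  g_even := by decide +kernel
  g_supp := by decide +kernel
  f1_even := by decide +kernel
  f1_supp := by decide +kernel
  f1_sq := by decide +kernel
  vm := by decide +kernel
  cop := by decide +kernel
  comm := by decide +kernel
  conj := by decide +kernel
  exA := by decide +kernel
  exB := by decide +kernel
  tabs := by decide +kernel
  genI := by decide +kernel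
  genA := by decide +kernel
  genB := by decide +kernel

/-- Certificate. -/
def certS13 : Cert 11 13 :=
  ⟨[(0, 4), (1, 9), (2, 8)], [(0, 10), (10, 5), (1, 4), (4, 2), (2, 6), (6, 3), (3, 12), (12, 9), (9, 7), (7, 11)], [], [], [], [],
    9, 10, 7, 2, 0, 1, 9,
    [], [],
    [[], [], [0, 0, 0, 1, 1, 0, 1, 0, 1, 0, 1, 0, 1, 0, 1, 1, 1, 1, 1, 1, 1, 1, 1, 1, 1, 1, 1, 1, 1, 1, 1, 0, 0, 0, 0, 0, 0, 0, 0, 0, 0, 0, 0, 0, 0, 0, 0, 0, 0, 0, 0, 0, 0, 0, 0, 0, 0, 0, 1, 1, 0, 1, 0, 1, 0, 1, 0, 1, 0, 1, 1, 1, 1, 1, 1, 1, 1, 1, 1, 1, 1, 1, 1, 1, 1, 1, 0, 0, 0, 0, 0, 0, 0, 0, 0, 0, 0, 0, 0, 0, 0, 0, 0, 0, 0, 0, 0, 0, 0, 0], [0, 0, 1, 0, 0, 0, 1, 0, 1, 0, 1, 0, 1, 0, 1, 0, 0, 0, 0, 0, 0, 0, 0, 0, 0, 0, 0, 0, 0, 0, 0, 1, 1, 1, 1, 1, 1, 1, 1, 0, 0, 0, 0, 0, 0, 0, 0, 0, 0, 0,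 0, 0, 0, 0, 0, 0, 0, 1, 0, 0, 0, 1, 0, 1, 0, 1, 0, 1, 0, 1, 0, 0, 0, 0, 0, 0, 0, 0, 0, 0, 0, 0, 0, 0, 0, 0, 1, 1, 1, 1, 1, 1, 1, 1, 0, 0, 0, 0, 0, 0, 0, 0, 0, 0, 0, 0, 0, 0, 0, 0], [0, 1, 0, 0, 0, 1, 0, 0, 0, 0, 1, 0, 1, 0, 1, 0, 1, 0, 1, 0, 0, 0, 0, 0, 0, 0, 0, 0, 0, 0, 0, 0, 0, 0, 0, 0, 0, 0, 0, 0, 0, 0, 0, 1, 1, 1, 1, 1, 1, 1, 1, 0, 0, 0, 0, 0, 0, 0, 0, 0, 0, 0, 0, 0, 0, 0, 0, 0, 0, 0, 0, 0, 0, 0, 0, 1, 1, 1, 1, 1, 1, 1, 1, 0, 0, 0, 0, 0, 0, 0, 0, 0, 1, 0, 0, 0, 1, 0, 0, 0, 0, 1, 0, 1, 0, 1, 0, 1, 0, 1, 0, 0, 0, 0, 0, 0, 0, 0, 0, 0, 0, 0, 0, 0, 0, 0, 0, 0, 0, 0, 0, 0, 0, 0, 1, 1, 1, 1, 1, 1, 1, 1, 0, 0, 0, 0, 0, 0, 0, 0, 0, 0, 0, 0, 0, 0, 0, 0, 0, 0, 0, 0, 0, 0, 0, 0, 1, 1, 1, 1, 1, 1, 1, 1, 0, 0, 0, 0, 0, 0, 0, 0], [1, 0, 1, 1, 0, 0, 1, 1, 1, 0, 0, 1, 0,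 1, 0, 1, 0, 1, 0, 1, 0, 0, 0, 0, 0, 0, 0, 0, 1, 1, 1, 1, 1, 1, 1, 1, 1, 1, 1, 1, 1, 1, 1, 1, 1, 1, 1, 1, 1, 1, 1, 1, 0, 0, 0, 0, 0, 0, 0, 0, 0, 0, 0, 0, 0, 0, 0, 0, 1, 1, 1, 1, 1, 1, 1, 1, 1, 1, 1, 1, 1, 1, 1, 1, 0, 0, 0, 0, 0, 0, 0, 0, 1, 1, 1, 1, 1, 1, 1, 1], [0, 1, 1, 0, 0, 0, 1, 0, 1, 0, 1, 0, 1, 0, 1, 0, 0, 0, 0, 0, 0, 0, 0, 0, 0, 0, 0, 0, 0, 0, 0, 1, 1, 1, 1, 1, 1, 1, 1, 1, 1, 1, 1, 1, 1, 1, 1, 0, 0, 0, 0, 0, 0, 0, 0, 0, 1, 1, 0, 0, 0, 1, 0, 1, 0, 1, 0, 1, 0, 1, 0, 0, 0, 0, 0, 0, 0, 0, 0, 0, 0, 0, 0, 0, 0, 0, 1, 1, 1, 1, 1, 1, 1, 1, 1, 1, 1, 1, 1, 1, 1, 1, 0, 0, 0, 0, 0, 0, 0, 0], [0, 0, 0, 0, 0, 1, 0, 0, 0, 0, 1, 0, 1, 0, 1, 0, 1, 0, 1, 0, 0, 0, 0, 0, 0, 0, 0, 0, 0, 0, 0, 0, 0, 0, 0, 0, 0, 0, 0, 0, 0, 0, 0, 1, 1, 1, 1, 1, 1, 1, 1, 0, 0, 0, 0, 0, 0, 0,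 0, 0, 0, 0, 0, 0, 0, 0, 0, 0, 0, 0, 0, 0, 0, 0, 0, 0, 0, 0, 0, 0, 0, 0, 0, 0, 0, 0, 0, 0, 0, 0, 0, 0, 0, 0, 0, 0, 1, 0, 0, 0, 0, 1, 0, 1, 0, 1, 0, 1, 0, 1, 0, 0, 0, 0, 0, 0, 0, 0, 0, 0, 0, 0, 0, 0, 0, 0, 0, 0, 0, 0, 0, 0, 0, 0, 1, 1, 1, 1, 1, 1, 1, 1, 0, 0, 0, 0, 0, 0, 0, 0, 0, 0, 0, 0, 0, 0, 0, 0, 0, 0, 0, 0, 0, 0, 0, 0, 0, 0, 0, 0, 0, 0, 0, 0, 0, 0, 0, 0, 0, 0, 0, 0], [0, 0, 0, 1, 1, 1, 0, 1, 0, 1, 0, 1, 0, 1, 0, 1, 1, 1, 1, 1, 1, 1, 1, 1, 1, 1, 1, 1, 1, 1, 1, 1, 1, 1, 1, 1, 1, 1, 1, 1, 0, 0, 0, 0, 0, 0, 0, 0, 0, 0, 0, 0, 0, 0, 0, 0, 0, 0, 0, 0, 0, 0, 0, 0, 0, 0, 0, 1, 1, 1, 0, 1, 0, 1, 0, 1, 0, 1, 0, 1, 1, 1, 1, 1, 1, 1, 1, 1, 1, 1, 1, 1, 1, 1, 1, 1, 1, 1, 1, 1, 1, 1, 1, 1, 0, 0, 0, 0, 0, 0, 0, 0, 0, 0, 0, 0, 0, 0, 0, 0, 0, 0, 0, 0, 0, 0, 0, 0], [0, 0, 0,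 0, 1, 1, 0, 0, 0, 0, 1, 0, 1, 0, 1, 0, 1, 0, 1, 0, 0, 0, 0, 0, 0, 0, 0, 0, 0, 0, 0, 0, 0, 0, 0, 0, 0, 0, 0, 0, 0, 0, 0, 1, 1, 1, 1, 1, 1, 1, 1, 1, 1, 1, 1, 1, 1, 1, 1, 0, 0, 0, 0, 0, 0, 0, 0, 0, 0, 0, 0, 0, 0, 0, 0, 0, 0, 0, 0, 0, 0, 0, 0, 0, 0, 0, 0, 0, 0, 0, 0, 0, 0, 0, 0, 1, 1, 0, 0, 0, 0, 1, 0, 1, 0, 1, 0, 1, 0, 1, 0, 0, 0, 0, 0, 0, 0, 0, 0, 0, 0, 0, 0, 0, 0, 0, 0, 0, 0, 0, 0, 0, 0, 0, 1, 1, 1, 1, 1, 1, 1, 1, 1, 1, 1, 1, 1, 1, 1, 1, 0, 0, 0, 0, 0, 0, 0, 0, 0, 0, 0, 0, 0, 0, 0, 0, 0, 0, 0, 0, 0, 0, 0, 0, 0, 0, 0, 0, 0, 0, 0, 0], [0, 1, 1, 0, 0, 1, 0, 1, 0, 1, 0, 1, 0, 1, 0, 0, 0, 0, 0, 0, 0, 0, 1, 1, 1, 1, 1, 1, 1, 1, 1, 1, 1, 1, 1, 1, 1, 1, 0, 0, 0, 0, 0, 0, 0, 0, 0, 1, 1, 0, 0, 1, 0, 1, 0, 1, 0, 1, 0, 1, 0, 0, 0, 0, 0, 0, 0, 0, 1, 1, 1, 1, 1, 1, 1, 1, 1,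 1, 1, 1, 1, 1, 1, 1, 0, 0, 0, 0, 0, 0, 0, 0], [0, 0, 1, 0, 0, 1, 0, 1, 0, 1, 0, 1, 0, 1, 0, 0, 0, 0, 0, 0, 0, 0, 1, 1, 1, 1, 1, 1, 1, 1, 0, 0, 0, 0, 0, 0, 0, 0, 0, 0, 0, 0, 0, 0, 0, 0, 0, 0, 1, 0, 0, 1, 0, 1, 0, 1, 0, 1, 0, 1, 0, 0, 0, 0, 0, 0, 0, 0, 1, 1, 1, 1, 1, 1, 1, 1, 0, 0, 0, 0, 0, 0, 0, 0, 0, 0, 0, 0, 0, 0, 0, 0], [1, 0, 0, 0, 0, 0, 0, 0, 1, 0, 1, 0, 1, 0, 1, 0, 1, 0, 0, 0, 0, 0, 0, 0, 0, 0, 0, 0, 0, 0, 0, 0, 0, 0, 0, 0, 0, 0, 0, 0, 0, 0, 0, 0, 0, 0, 0, 0, 0, 0, 0, 0, 0, 0, 0, 0, 0, 0, 0, 0, 0, 0, 0, 0, 0, 1, 1, 1, 1, 1, 1, 1, 1, 1, 0, 0, 0, 0, 0, 0, 0, 1, 0, 1, 0, 1, 0, 1, 0, 1, 0, 0, 0, 0, 0, 0, 0, 0, 0, 0, 0, 0, 0, 0, 0, 0, 0, 0, 0, 0, 0, 0, 0, 0, 0, 0, 0, 0, 0, 0, 0, 0, 0, 0, 0, 0, 0, 0, 0, 0, 0, 0, 0, 0, 0, 0, 0, 0, 1, 1, 1, 1, 1, 1, 1, 1]],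
    [],
    [],
    10418207305893288074, 1482817155704948968⟩

theorem certS13_ok : certS13.Ok where
  hp := by norm_num
  hp3 := by norm_num
  hn := by decide +kernel
  c_sq := by decide +kernel
  cover := by decide +kernel
  points := by decide +kernel
  ne := by decide +kernel
  cne := by decide +kernel
  v_even := by decide +kernel
  v_supp := by decide +kernel
  g1_even := by decide +kernel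
  g1_supp := by decide +kernel
  g_even := by decide +kernel
  g_supp := by decide +kernel
  f1_even := by decide +kernel
  f1_supp := by decide +kernel
  f1_sq := by decide +kernel
  vm := by decide +kernel
  cop := by decide +kernel
  comm := by decide +kernel
  conj := by decide +kernel
  exA := by decide +kernel
  exB := by decide +kernel
  tabs := by decide +kernel
  genI := by decide +kernel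
  genA := by decide +kernel
  genB := by decide +kernel

/-- Certificate. -/
def certA14 : Cert 11 14 :=
  ⟨[(0, 2), (3, 6), (8, 10), (12, 13)], [(0, 9), (9, 5), (5, 8), (8, 11), (11, 10), (10, 1), (1, 7), (7, 4), (2, 6), (6, 3)], [(3, 8), (8, 12)], [(3, 8), (8, 12)], [(0, 1), (2, 3), (4, 5), (6, 7)], [(1, 2), (2, 3), (3, 6), (6, 12), (12, 9), (9, 4), (4, 8), (5, 10), (7, 13), (13, 11)],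
    2, 4, 10, 7, 0, 1, 9,
    [[(2, 3), (4, 8)]], [[(1, 3), (3, 7)]],
    [[], [], [0, 0, 0, 0, 1, 0, 0, 1, 0, 1, 1, 0, 0, 0, 1, 1, 1, 0, 0, 0, 1, 1, 1, 0, 0, 0, 1, 1, 1, 0, 0, 0, 1, 1, 1, 0, 0, 0, 1, 1, 1, 0, 0, 0, 1, 1, 1, 0, 0, 0, 1, 0, 0, 0, 0, 0, 0, 0, 0, 1, 1, 1, 1, 1, 1, 1, 1, 0, 0, 0, 0, 0, 0, 0, 0, 0, 0, 0, 0, 0, 0, 0, 0, 1, 1, 1, 1, 1, 1, 1, 1, 0, 0, 0, 0, 0, 0, 0, 0, 0, 0, 0, 0, 0, 0, 0, 0, 0, 0, 0, 0, 0, 0, 0, 0, 0, 0, 0, 0, 0, 0, 0, 0], [0, 0, 0, 1, 0, 1, 1, 1, 1, 0, 0, 0, 1, 1, 1, 0, 0, 0, 1, 1, 1, 0, 0, 0, 1, 1, 1, 0, 0, 0, 1, 1, 1, 0, 0, 0, 1, 1, 1, 0, 0, 0, 1, 1, 1, 0, 0, 0, 1, 1, 1, 1, 1, 1, 1, 1, 1, 1, 1, 1, 1, 1, 1, 1, 1, 0, 0, 0, 0, 0, 0, 0, 0, 1, 1, 1, 1, 1, 1, 1, 1, 0, 0, 0, 0, 0, 0, 0, 0, 0, 0, 0, 0, 0, 0, 0, 0, 0, 0, 0, 0, 0, 0, 0, 0,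 0, 0, 0, 1, 0, 1, 1, 1, 1, 0, 0, 0, 1, 1, 1, 0, 0, 0, 1, 1, 1, 0, 0, 0, 1, 1, 1, 0, 0, 0, 1, 1, 1, 0, 0, 0, 1, 1, 1, 0, 0, 0, 1, 1, 1, 0, 0, 0, 1, 1, 1, 1, 1, 1, 1, 1, 1, 1, 1, 1, 1, 1, 1, 1, 1, 0, 0, 0, 0, 0, 0, 0, 0, 1, 1, 1, 1, 1, 1, 1, 1, 0, 0, 0, 0, 0, 0, 0, 0, 0, 0, 0, 0, 0, 0, 0, 0, 0, 0, 0, 0, 0, 0, 0, 0], [0, 0, 0, 0, 0, 1, 1, 0, 1, 1, 1, 0, 0, 0, 1, 1, 1, 0, 0, 0, 1, 1, 1, 0, 0, 0, 1, 1, 1, 0, 0, 0, 1, 1, 1, 0, 0, 0, 1, 1, 1, 0, 0, 0, 1, 1, 1, 0, 0, 0, 1, 1, 1, 1, 1, 1, 1, 1, 1, 0, 0, 0, 0, 0, 0, 0, 0, 1, 1, 1, 1, 1, 1, 1, 1, 1, 1, 1, 1, 1, 1, 1, 1, 0, 0, 0, 0, 0, 0, 0, 0, 0, 0, 0, 0, 0, 0, 0, 0, 0, 0, 0, 0, 0, 0, 0, 0, 0, 0, 0, 0, 0, 0, 0, 0, 0, 0, 0, 0, 0, 0, 0, 0], [0, 0, 1, 0, 1, 0, 1, 1, 1, 0, 0, 0, 1, 1, 1, 0, 0, 0, 1, 1, 1, 0, 0, 0, 1, 1, 1,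 0, 0, 0, 1, 1, 1, 0, 0, 0, 1, 1, 1, 0, 0, 0, 1, 1, 1, 0, 0, 0, 1, 1, 1, 1, 1, 1, 1, 1, 1, 0, 0, 0, 0, 0, 0, 0, 0, 1, 1, 1, 1, 1, 1, 1, 1, 0, 0, 0, 0, 0, 0, 0, 0, 1, 1, 1, 1, 1, 1, 1, 1, 0, 0, 0, 0, 0, 0, 0, 0, 0, 0, 0, 0, 0, 0, 0, 0, 0, 0, 1, 0, 1, 0, 1, 1, 1, 0, 0, 0, 1, 1, 1, 0, 0, 0, 1, 1, 1, 0, 0, 0, 1, 1, 1, 0, 0, 0, 1, 1, 1, 0, 0, 0, 1, 1, 1, 0, 0, 0, 1, 1, 1, 0, 0, 0, 1, 1, 1, 1, 1, 1, 1, 1, 1, 0, 0, 0, 0, 0, 0, 0, 0, 1, 1, 1, 1, 1, 1, 1, 1, 0, 0, 0, 0, 0, 0, 0, 0, 1, 1, 1, 1, 1, 1, 1, 1, 0, 0, 0, 0, 0, 0, 0, 0, 0, 0, 0, 0, 0, 0, 0, 0], [1, 0, 0, 1, 0, 0, 0, 1, 1, 0, 0, 0, 1, 1, 1, 0, 0, 0, 1, 1, 1, 0, 0, 0, 1, 1, 1, 0, 0, 0, 1, 1, 1, 0, 0, 0, 1, 1, 1, 0, 0, 0, 1, 1, 1, 0, 0, 0, 1, 0, 0, 0, 0, 0, 0, 0, 0, 0, 0, 0, 0, 0, 0, 0, 0, 0, 0, 0, 0, 0, 0, 0, 0,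 1, 1, 1, 1, 1, 1, 1, 1, 0, 0, 0, 0, 0, 0, 0, 0, 0, 0, 0, 0, 0, 0, 0, 0, 1, 1, 1, 1, 1, 1, 1, 1, 1, 0, 0, 1, 0, 0, 0, 1, 1, 0, 0, 0, 1, 1, 1, 0, 0, 0, 1, 1, 1, 0, 0, 0, 1, 1, 1, 0, 0, 0, 1, 1, 1, 0, 0, 0, 1, 1, 1, 0, 0, 0, 1, 1, 1, 0, 0, 0, 1, 0, 0, 0, 0, 0, 0, 0, 0, 0, 0, 0, 0, 0, 0, 0, 0, 0, 0, 0, 0, 0, 0, 0, 0, 1, 1, 1, 1, 1, 1, 1, 1, 0, 0, 0, 0, 0, 0, 0, 0, 0, 0, 0, 0, 0, 0, 0, 0, 1, 1, 1, 1, 1, 1, 1, 1], [0, 0, 1, 0, 0, 0, 1, 1, 1, 1, 0, 0, 0, 1, 1, 1, 0, 0, 0, 1, 1, 1, 0, 0, 0, 1, 1, 1, 0, 0, 0, 1, 1, 1, 0, 0, 0, 1, 1, 1, 0, 0, 0, 1, 1, 1, 0, 0, 0, 1, 1, 1, 1, 1, 1, 1, 1, 1, 1, 1, 1, 1, 1, 1, 1, 1, 0, 0, 0, 0, 0, 0, 0, 0, 0, 0, 0, 0, 0, 0, 0, 0, 0, 0, 0, 0, 0, 0, 0, 0, 1, 1, 1, 1, 1, 1, 1, 1, 0, 0, 0, 0, 0, 0, 0, 0, 0, 0, 0, 0, 0, 0, 0, 0], [0, 0, 1, 1,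 1, 0, 0, 0, 1, 1, 1, 0, 0, 0, 1, 1, 1, 0, 0, 0, 1, 1, 1, 0, 0, 0, 1, 1, 1, 0, 0, 0, 1, 1, 1, 0, 0, 0, 1, 1, 1, 0, 0, 0, 1, 1, 1, 1, 1, 1, 1, 1, 1, 0, 0, 0, 0, 0, 0, 0, 0, 0, 0, 0, 0, 0, 0, 0, 0], [1, 0, 1, 0, 1, 0, 1, 1, 0, 0, 0, 1, 1, 1, 0, 0, 0, 1, 1, 1, 0, 0, 0, 1, 1, 1, 0, 0, 0, 1, 1, 1, 0, 0, 0, 1, 1, 1, 0, 0, 0, 1, 1, 1, 0, 0, 0, 1, 0, 0, 0, 0, 0, 0, 0, 0, 1, 1, 1, 1, 1, 1, 1, 1, 0, 0, 0, 0, 0, 0, 0, 0, 1, 1, 1, 1, 1, 1, 1, 1, 0, 0, 0, 0, 0, 0, 0, 0, 1, 1, 1, 1, 1, 1, 1, 1], [1, 0, 0, 1, 0, 1, 1, 0, 1, 1, 0, 0, 0, 1, 1, 1, 0, 0, 0, 1, 1, 1, 0, 0, 0, 1, 1, 1, 0, 0, 0, 1, 1, 1, 0, 0, 0, 1, 1, 1, 0, 0, 0, 1, 1, 1, 0, 0, 0, 1, 0, 0, 0, 0, 0, 0, 0, 0, 1, 1, 1, 1, 1, 1, 1, 1, 1, 1, 1, 1, 1, 1, 1, 1, 0, 0, 0, 0, 0, 0, 0, 0, 1, 1, 1, 1, 1, 1, 1, 1, 0, 0, 0, 0,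 0, 0, 0, 0, 0, 0, 0, 0, 0, 0, 0, 0, 1, 1, 1, 1, 1, 1, 1, 1], [1, 1, 1, 1, 0, 1, 0, 0, 0, 1, 1, 0, 0, 0, 1, 1, 1, 0, 0, 0, 1, 1, 1, 0, 0, 0, 1, 1, 1, 0, 0, 0, 1, 1, 1, 0, 0, 0, 1, 1, 1, 0, 0, 0, 1, 1, 1, 0, 0, 0, 1, 0, 0, 0, 0, 0, 0, 0, 0, 0, 0, 0, 0, 0, 0, 0, 0, 0, 0, 0, 0, 0, 0, 0, 0, 1, 1, 1, 1, 1, 1, 1, 1, 0, 0, 0, 0, 0, 0, 0, 0, 1, 1, 1, 1, 1, 1, 1, 1, 1, 1, 1, 1, 1, 1, 1, 1, 1, 1, 1, 1, 1, 1, 1, 1, 1, 1, 1, 1, 1, 1, 1, 1]],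
    [[], [], [], [], [], [], [], [], [], [], [], [], [1, 0, 1]],
    [[], [], [], [], [], [], [], [], [], [], [], [], [1, 0, 1, 1, 1, 0, 1, 1]],
    493812005999244024041, 493751196406006359267⟩

theorem certA14_ok : certA14.Ok where
  hp := by norm_num
  hp3 := by norm_num
  hn := by decide +kernel
  c_sq := by decide +kernel
  cover := by decide +kernel
  points := by decide +kernel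
  ne := by decide +kernel
  cne := by decide +kernel
  v_even := by decide +kernel
  v_supp := by decide +kernel
  g1_even := by decide +kernel
  g1_supp := by decide +kernel
  g_even := by decide +kernel
  g_supp := by decide +kernel
  f1_even := by decide +kernel
  f1_supp := by decide +kernel
  f1_sq := by decide +kernel
  vm := by decide +kernel
  cop := by decide +kernel
  comm := by decide +kernel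
  conj := by decide +kernel
  exA := by decide +kernel
  exB := by decide +kernel
  tabs := by decide +kernel
  genI := by decide +kernel
  genA := by decide +kernel
  genB := by decide +kernel

/-- Certificate. -/
def certS14 : Cert 11 14 :=
  ⟨[(0, 3), (1, 10), (2, 11), (4, 7), (5, 6), (8, 9), (12, 13)], [(0, 2), (2, 5), (5, 6), (6, 1), (1, 4), (4, 9), (9, 10), (10, 11), (11, 7), (7, 3)], [(0, 10), (10, 12)], [(0, 10), (10, 12)], [], [],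
    5, 6, 11, 0, 0, 1, 11,
    [[(0, 5), (6, 10)]], [[(0, 2), (3, 10)]],
    [[], [], [0, 1, 0, 1, 1, 0, 0, 1, 0, 1, 0, 1, 0, 1, 0, 1, 0, 1, 0, 1, 0, 0, 0, 0, 0, 0, 0, 0, 0, 0, 0, 0, 0, 0, 0, 0, 0, 0, 0, 0, 0, 1, 1, 1, 1, 1, 1, 1, 1, 1, 1, 1, 1, 1, 1, 1, 1, 1, 1, 1, 1, 0, 0, 0, 0, 0, 0, 0, 0, 0, 0, 1, 1, 1, 1, 1, 1, 1, 1, 1, 1, 0, 0, 0, 0, 0, 0, 0, 0, 0, 0], [1, 1, 1, 1, 0, 0, 1, 0, 0, 1, 0, 1, 0, 1, 0, 1, 0, 1, 0, 1, 0, 1, 0, 0, 0, 0, 0, 0, 0, 0, 0, 0, 0, 0, 0, 0, 0, 0, 0, 0, 0, 0, 0, 1, 1, 1, 1, 1, 1, 1, 1, 1, 1, 0, 0, 0, 0, 0, 0, 0, 0, 0, 0, 0, 0, 0, 0, 0, 0, 0, 0, 0, 0, 1, 1, 1, 1, 1, 1, 1, 1, 1, 1, 1, 1, 1, 1, 1, 1, 1, 1, 1, 1, 1, 1, 1, 1, 1, 1, 1, 1, 1, 1, 1, 1, 1, 1, 1, 1, 1, 1, 1, 1], [1, 0, 0, 0, 0, 0, 1, 1, 1, 0, 1, 0, 1, 0, 1, 0, 1, 0, 1, 0, 1, 0,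 1, 1, 1, 1, 1, 1, 1, 1, 1, 1, 1, 1, 1, 1, 1, 1, 1, 1, 1, 1, 0, 0, 0, 0, 0, 0, 0, 0, 0, 0, 0, 0, 0, 0, 0, 0, 0, 0, 0, 0, 0, 0, 0, 0, 0, 0, 0, 0, 0, 0, 0, 0, 0, 0, 0, 0, 0, 0, 0, 0, 0, 0, 0, 0, 0, 0, 0, 0, 0, 0, 1, 1, 1, 1, 1, 1, 1, 1, 1, 1], [1, 0, 0, 0, 1, 0, 0, 1, 0, 1, 0, 1, 0, 1, 0, 1, 0, 1, 0, 1, 0, 0, 0, 0, 0, 0, 0, 0, 0, 0, 0, 0, 0, 0, 0, 0, 0, 0, 0, 0, 0, 1, 1, 1, 1, 1, 1, 1, 1, 1, 1, 0, 0, 0, 0, 0, 0, 0, 0, 0, 0, 0, 0, 0, 0, 0, 0, 0, 0, 0, 0, 0, 0, 0, 0, 0, 0, 0, 0, 0, 0, 1, 1, 1, 1, 1, 1, 1, 1, 1, 1], [1, 1, 1, 0, 0, 1, 1, 0, 1, 0, 1, 0, 1, 0, 1, 0, 1, 0, 1, 0, 1, 1, 1, 1, 1, 1, 1, 1, 1, 1, 0, 0, 0, 0, 0, 0, 0, 0, 0, 0, 0, 0, 0, 0, 0, 0, 0, 0, 0, 0, 1, 1, 1, 1, 1, 1, 1, 1, 1, 1, 1, 1, 1, 1, 1, 1, 1, 1, 1, 1, 1, 1, 1, 1, 1, 1, 1, 1, 1, 1], [0, 0, 0, 1,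 0, 0, 0, 1, 0, 1, 0, 1, 0, 1, 0, 1, 0, 1, 0, 1, 0, 0, 0, 0, 0, 0, 0, 0, 0, 0, 0, 0, 0, 0, 0, 0, 0, 0, 0, 0, 0, 0, 0, 0, 0, 0, 0, 0, 0, 0, 0, 1, 1, 1, 1, 1, 1, 1, 1, 1, 1, 0, 0, 0, 0, 0, 0, 0, 0, 0, 0, 0, 0, 0, 0, 0, 0, 0, 0, 0, 0, 0, 0, 0, 0, 0, 0, 0, 0, 0, 0, 0, 0, 0, 1, 0, 0, 0, 1, 0, 1, 0, 1, 0, 1, 0, 1, 0, 1, 0, 1, 0, 0, 0, 0, 0, 0, 0, 0, 0, 0, 0, 0, 0, 0, 0, 0, 0, 0, 0, 0, 0, 0, 0, 0, 0, 0, 0, 0, 0, 0, 0, 1, 1, 1, 1, 1, 1, 1, 1, 1, 1, 0, 0, 0, 0, 0, 0, 0, 0, 0, 0, 0, 0, 0, 0, 0, 0, 0, 0, 0, 0, 0, 0, 0, 0, 0, 0, 0, 0, 0, 0], [0, 0, 0, 0, 1, 1, 1, 0, 1, 0, 1, 0, 1, 0, 1, 0, 1, 0, 1, 0, 1, 1, 1, 1, 1, 1, 1, 1, 1, 1, 1, 1, 1, 1, 1, 1, 1, 1, 1, 1, 0, 0, 0, 0, 0, 0, 0, 0, 0, 0, 0, 0, 0, 0, 0, 0, 0, 0, 0, 0, 0, 0, 0, 0, 0, 0, 0, 0, 0, 0, 0, 0, 0, 0, 0, 0, 0, 0,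 0, 0], [1, 1, 0, 0, 1, 1, 0, 0, 1, 0, 1, 0, 1, 0, 1, 0, 1, 0, 1, 0, 1, 0, 0, 0, 0, 0, 0, 0, 0, 0, 0, 0, 0, 0, 0, 0, 0, 0, 0, 0, 0, 0, 1, 1, 1, 1, 1, 1, 1, 1, 1, 1, 1, 1, 1, 1, 1, 1, 1, 1, 1, 1, 0, 0, 0, 0, 0, 0, 0, 0, 0, 0, 0, 0, 0, 0, 0, 0, 0, 0, 0, 0, 1, 1, 1, 1, 1, 1, 1, 1, 1, 1, 1, 1, 1, 1, 1, 1, 1, 1, 1, 1], [0, 0, 1, 1, 0, 1, 0, 1, 0, 1, 0, 1, 0, 1, 0, 1, 0, 1, 1, 1, 1, 1, 1, 1, 1, 1, 1, 0, 0, 0, 0, 0, 0, 0, 0, 0, 0, 0, 0, 0, 0, 0, 0, 0, 0, 0, 0], [0, 0, 0, 0, 0, 0, 1, 1, 0, 1, 0, 1, 0, 1, 0, 1, 0, 1, 0, 1, 0, 1, 1, 1, 1, 1, 1, 1, 1, 1, 1, 0, 0, 0, 0, 0, 0, 0, 0, 0, 0, 0, 0, 0, 0, 0, 0, 0, 0, 0, 0, 0, 0, 0, 0, 0, 0, 0, 0, 0, 0, 0, 0, 0, 0, 0, 0, 0, 0, 0, 0, 0, 0, 0, 0, 0, 0, 0, 0, 0, 0, 0, 0, 0, 0, 0, 0, 0, 0, 0, 0]],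
    [[], [], [], [], [], [], [], [], [], [], [], [], [1, 0, 1]],
    [[], [], [], [], [], [], [], [], [], [], [], [], [1, 0, 1]],
    493715351194016158850, 493674776092635140163⟩

theorem certS14_ok : certS14.Ok where
  hp := by norm_num
  hp3 := by norm_num
  hn := by decide +kernel
  c_sq := by decide +kernel
  cover := by decide +kernel
  points := by decide +kernel
  ne := by decide +kernel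
  cne := by decide +kernel
  v_even := by decide +kernel
  v_supp := by decide +kernel
  g1_even := by decide +kernel
  g1_supp := by decide +kernel
  g_even := by decide +kernel
  g_supp := by decide +kernel
  f1_even := by decide +kernel
  f1_supp := by decide +kernel
  f1_sq := by decide +kernel
  vm := by decide +kernel
  cop := by decide +kernel
  comm := by decide +kernel
  conj := by decide +kernel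
  exA := by decide +kernel
  exB := by decide +kernel
  tabs := by decide +kernel
  genI := by decide +kernel
  genA := by decide +kernel
  genB := by decide +kernel

/-- Certificate. -/
def certA17 : Cert 13 17 :=
  ⟨[(0, 12), (10, 11), (13, 15), (14, 16)], [(0, 12), (12, 1), (1, 8), (8, 2), (2, 9), (9, 11), (11, 4), (4, 6), (6, 3), (3, 10), (10, 5), (5, 7)], [(0, 13), (13, 14)], [(0, 13), (13, 14)], [(0, 1), (2, 3), (4, 5), (6, 7)], [(1, 12), (12, 5), (5, 15), (15, 8), (2, 10), (10, 3), (3, 11), (11, 4), (4, 13), (13, 6), (6, 14), (14, 7), (7, 16), (16, 9)],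
    8, 4, 7, 10, 0, 1, 13,
    [[(0, 4), (4, 8)]], [[(0, 7), (7, 11)]],
    [[], [], [1, 1, 0, 0, 1, 0, 1, 1, 0, 1, 0, 0, 1, 1, 0, 1, 0, 0, 1, 1, 0, 1, 0, 0, 1, 1, 0, 1, 0, 1, 1, 1, 1, 1, 1, 1, 1, 1, 1, 1, 1, 0, 0, 0, 0, 0, 0, 0, 0, 0, 0, 0, 0, 0, 0, 0, 0, 0, 0, 0, 0, 0, 0, 0, 0, 1, 1, 1, 1, 1, 1, 1, 1, 1, 1, 1, 1, 1, 1, 1, 1, 1, 1, 1, 1, 1, 1, 1, 1, 1, 1, 0, 0, 1, 0, 1, 1, 0, 1, 0, 0, 1, 1, 0, 1, 0, 0, 1, 1, 0, 1, 0, 0, 1, 1, 0, 1, 0, 1, 1, 1, 1, 1, 1, 1, 1, 1, 1, 1, 1, 0, 0, 0, 0, 0, 0, 0, 0, 0, 0, 0, 0, 0, 0, 0, 0, 0, 0, 0, 0, 0, 0, 0, 0, 1, 1, 1, 1, 1, 1, 1, 1, 1, 1, 1, 1, 1, 1, 1, 1, 1, 1, 1, 1, 1, 1, 1, 1], [0, 0, 1, 0, 1, 0, 0, 0, 0, 1, 1, 0, 1, 0, 0, 1, 1, 0, 1, 0, 0, 1, 1, 0, 1, 0, 0, 1, 1, 0, 1, 0, 0, 0, 0, 0, 0, 0, 0, 0, 0, 0, 0, 0, 0, 0, 0, 0, 0,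 0, 0, 0, 0, 0, 0, 0, 0, 0, 0, 0, 0, 0, 0, 0, 0, 0, 0, 0, 1, 1, 1, 1, 1, 1, 1, 1, 1, 1, 1, 1, 0, 0, 0, 0, 0, 0, 0, 0, 0, 0, 0, 0, 1, 1, 1, 1, 1, 1, 1, 1, 1, 1, 1, 1, 0, 0, 0, 0, 0, 0, 0, 0, 0, 0, 0, 0, 0, 0, 0, 0, 0, 0, 0, 0, 0, 0, 0, 0], [0, 0, 1, 0, 0, 0, 1, 0, 0, 1, 1, 0, 1, 0, 0, 1, 1, 0, 1, 0, 0, 1, 1, 0, 1, 0, 0, 1, 1, 0, 1, 0, 0, 0, 0, 0, 0, 0, 0, 0, 0, 0, 0, 0, 1, 1, 1, 1, 1, 1, 1, 1, 1, 1, 1, 1, 0, 0, 0, 0, 0, 0, 0, 0, 0, 0, 0, 0, 0, 0, 0, 0, 0, 0, 0, 0, 0, 0, 0, 0, 0, 0, 0, 0, 0, 0, 0, 0, 0, 0, 0, 0, 1, 1, 1, 1, 1, 1, 1, 1, 1, 1, 1, 1, 0, 0, 0, 0, 0, 0, 0, 0, 0, 0, 0, 0, 0, 0, 0, 0, 0, 0, 0, 0, 0, 0, 0, 0, 0, 0, 1, 0, 0, 0, 1, 0, 0, 1, 1, 0, 1, 0, 0, 1, 1, 0, 1, 0, 0, 1, 1, 0, 1, 0, 0, 1, 1, 0, 1, 0, 0, 0, 0, 0, 0, 0, 0, 0, 0, 0, 0, 0, 1, 1, 1, 1, 1,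 1, 1, 1, 1, 1, 1, 1, 0, 0, 0, 0, 0, 0, 0, 0, 0, 0, 0, 0, 0, 0, 0, 0, 0, 0, 0, 0, 0, 0, 0, 0, 0, 0, 0, 0, 0, 0, 0, 0, 0, 0, 0, 0, 1, 1, 1, 1, 1, 1, 1, 1, 1, 1, 1, 1, 0, 0, 0, 0, 0, 0, 0, 0, 0, 0, 0, 0, 0, 0, 0, 0, 0, 0, 0, 0, 0, 0, 0, 0], [1, 0, 1, 0, 1, 1, 1, 1, 0, 0, 1, 1, 0, 1, 0, 0, 1, 1, 0, 1, 0, 0, 1, 1, 0, 1, 0, 0, 1, 1, 0, 1, 0, 0, 0, 0, 0, 0, 0, 0, 0, 0, 0, 0, 0, 1, 1, 1, 1, 1, 1, 1, 1, 1, 1, 1, 1, 1, 1, 1, 1, 1, 1, 1, 1, 1, 1, 1, 1, 1, 1, 1, 1, 1, 1, 1, 1, 1, 1, 1, 1, 1, 1, 1, 1, 1, 1, 1, 1, 1, 1, 1, 1, 0, 0, 0, 0, 0, 0, 0, 0, 0, 0, 0, 0, 1, 1, 1, 1, 1, 1, 1, 1, 1, 1, 1, 1, 0, 0, 0, 0, 0, 0, 0, 0, 0, 0, 0, 0, 1, 1, 1, 1, 1, 1, 1, 1, 1, 1, 1, 1], [0, 1, 1, 0, 0, 0, 0, 1, 1, 0, 1, 1, 0, 1, 0, 0, 1, 1, 0, 1, 0, 0, 1, 1, 0, 1, 0, 0, 1, 1, 0, 1, 0, 1, 1,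 1, 1, 1, 1, 1, 1, 1, 1, 1, 1, 1, 1, 1, 1, 1, 1, 1, 1, 1, 1, 1, 1, 0, 0, 0, 0, 0, 0, 0, 0, 0, 0, 0, 0, 0, 0, 0, 0, 0, 0, 0, 0, 0, 0, 0, 0, 0, 0, 0, 0, 0, 0, 0, 0, 0, 0, 0, 0, 0, 0, 0, 0, 0, 0, 0, 0, 0, 0, 0, 0, 1, 1, 1, 1, 1, 1, 1, 1, 1, 1, 1, 1, 1, 1, 1, 1, 1, 1, 1, 1, 1, 1, 1, 1, 0, 0, 0, 0, 0, 0, 0, 0, 0, 0, 0, 0, 0, 1, 1, 0, 0, 0, 0, 1, 1, 0, 1, 1, 0, 1, 0, 0, 1, 1, 0, 1, 0, 0, 1, 1, 0, 1, 0, 0, 1, 1, 0, 1, 0, 1, 1, 1, 1, 1, 1, 1, 1, 1, 1, 1, 1, 1, 1, 1, 1, 1, 1, 1, 1, 1, 1, 1, 1, 0, 0, 0, 0, 0, 0, 0, 0, 0, 0, 0, 0, 0, 0, 0, 0, 0, 0, 0, 0, 0, 0, 0, 0, 0, 0, 0, 0, 0, 0, 0, 0, 0, 0, 0, 0, 0, 0, 0, 0, 0, 0, 0, 0, 0, 0, 0, 0, 1, 1, 1, 1, 1, 1, 1, 1, 1, 1, 1, 1, 1, 1, 1, 1, 1, 1, 1, 1, 1, 1, 1, 1, 0, 0, 0, 0, 0, 0, 0, 0, 0, 0, 0, 0], [1, 0, 1, 0, 1, 1, 0, 1, 0,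 0, 1, 1, 0, 1, 0, 0, 1, 1, 0, 1, 0, 0, 1, 1, 0, 1, 0, 1, 1, 1, 1, 1, 1, 1, 1, 1, 1, 1, 1, 0, 0, 0, 0, 0, 0, 0, 0, 0, 0, 0, 0, 1, 1, 1, 1, 1, 1, 1, 1, 1, 1, 1, 1], [0, 0, 0, 1, 0, 1, 1, 0, 1, 0, 0, 1, 1, 0, 1, 0, 0, 1, 1, 0, 1, 0, 0, 1, 1, 0, 1, 0, 1, 1, 1, 1, 1, 1, 1, 1, 1, 1, 1, 1, 0, 0, 0, 0, 0, 0, 0, 0, 0, 0, 0, 0, 0, 0, 0, 0, 0, 0, 0, 0, 0, 0, 0, 0, 0, 0, 0, 0, 0, 0, 0, 0, 0, 0, 0, 0, 0, 0, 0, 1, 0, 1, 1, 0, 1, 0, 0, 1, 1, 0, 1, 0, 0, 1, 1, 0, 1, 0, 0, 1, 1, 0, 1, 0, 1, 1, 1, 1, 1, 1, 1, 1, 1, 1, 1, 1, 0, 0, 0, 0, 0, 0, 0, 0, 0, 0, 0, 0, 0, 0, 0, 0, 0, 0, 0, 0, 0, 0, 0, 0, 0, 0, 0, 0, 0, 0, 0, 0, 0, 0, 0, 0], [0, 0, 1, 0, 0, 1, 1, 0, 0, 1, 1, 0, 1, 0, 0, 1, 1, 0, 1, 0, 0, 1, 1, 0, 1, 0, 0, 1, 1, 0, 1, 0, 0, 0, 0, 0, 0, 0, 0, 0, 0, 0, 0, 0, 1, 1, 1, 1, 1,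 1, 1, 1, 1, 1, 1, 1, 1, 1, 1, 1, 1, 1, 1, 1, 1, 1, 1, 1, 0, 0, 0, 0, 0, 0, 0, 0, 0, 0, 0, 0, 0, 0, 0, 0, 0, 0, 0, 0, 0, 0, 0, 0, 1, 1, 1, 1, 1, 1, 1, 1, 1, 1, 1, 1, 0, 0, 0, 0, 0, 0, 0, 0, 0, 0, 0, 0, 0, 0, 0, 0, 0, 0, 0, 0, 0, 0, 0, 0, 0, 0, 1, 0, 0, 1, 1, 0, 0, 1, 1, 0, 1, 0, 0, 1, 1, 0, 1, 0, 0, 1, 1, 0, 1, 0, 0, 1, 1, 0, 1, 0, 0, 0, 0, 0, 0, 0, 0, 0, 0, 0, 0, 0, 1, 1, 1, 1, 1, 1, 1, 1, 1, 1, 1, 1, 1, 1, 1, 1, 1, 1, 1, 1, 1, 1, 1, 1, 0, 0, 0, 0, 0, 0, 0, 0, 0, 0, 0, 0, 0, 0, 0, 0, 0, 0, 0, 0, 0, 0, 0, 0, 1, 1, 1, 1, 1, 1, 1, 1, 1, 1, 1, 1, 0, 0, 0, 0, 0, 0, 0, 0, 0, 0, 0, 0, 0, 0, 0, 0, 0, 0, 0, 0, 0, 0, 0, 0], [1, 0, 1, 1, 0, 0, 1, 1, 0, 1, 0, 0, 1, 1, 0, 1, 0, 0, 1, 1, 0, 1, 0, 0, 1, 1, 0, 1, 0, 0, 0, 0, 0, 0, 0, 0, 0, 0, 0, 0, 0, 1, 1, 1, 1, 1, 1, 1, 1,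 1, 1, 1, 1, 1, 1, 1, 1, 1, 1, 1, 1, 1, 1, 1, 1, 0, 0, 0, 0, 0, 0, 0, 0, 0, 0, 0, 0, 1, 1, 1, 1, 1, 1, 1, 1, 1, 1, 1, 1], [1, 1, 0, 1, 0, 1, 0, 0, 0, 0, 1, 1, 0, 1, 0, 0, 1, 1, 0, 1, 0, 0, 1, 1, 0, 1, 0, 0, 1, 1, 0, 1, 0, 0, 0, 0, 0, 0, 0, 0, 0, 0, 0, 0, 0, 0, 0, 0, 0, 0, 0, 0, 0, 0, 0, 0, 0, 0, 0, 0, 0, 0, 0, 0, 0, 0, 0, 0, 0, 1, 1, 1, 1, 1, 1, 1, 1, 1, 1, 1, 1, 0, 0, 0, 0, 0, 0, 0, 0, 0, 0, 0, 0, 1, 1, 1, 1, 1, 1, 1, 1, 1, 1, 1, 1, 0, 0, 0, 0, 0, 0, 0, 0, 0, 0, 0, 0, 1, 1, 1, 1, 1, 1, 1, 1, 1, 1, 1, 1, 1, 1, 1, 1, 1, 1, 1, 1, 1, 1, 1, 1], [0, 0, 0, 1, 0, 0, 0, 0, 1, 1, 0, 1, 1, 0, 1, 0, 0, 1, 1, 0, 1, 0, 0, 1, 1, 0, 1, 0, 0, 1, 1, 0, 1, 0, 1, 1, 1, 1, 1, 1, 1, 1, 1, 1, 1, 1, 1, 1, 1, 1, 1, 1, 1, 1, 1, 1, 1, 1, 0, 0, 0, 0, 0, 0, 0, 0, 0, 0, 0, 0, 0, 0, 0, 0,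 0, 0, 0, 0, 0, 0, 0, 0, 0, 0, 0, 0, 0, 0, 0, 0, 0, 0, 0, 0, 0, 0, 0, 0, 0, 0, 0, 0, 0, 0, 0, 0, 1, 1, 1, 1, 1, 1, 1, 1, 1, 1, 1, 1, 0, 0, 0, 0, 0, 0, 0, 0, 0, 0, 0, 0, 0, 0, 0, 0, 0, 0, 0, 0, 0, 0, 0, 0, 0, 0, 0, 0, 0, 0, 0, 0, 0, 0, 0, 0]],
    [[], [], [], [], [], [], [], [], [], [], [], [], [], [0, 1, 0, 0, 0, 1, 0, 0], [0, 0, 1, 0, 0, 0, 0, 0, 0, 1, 0, 0, 0, 0]],
    [[], [], [], [], [], [], [], [], [], [], [], [], [], [0, 1, 0, 0], [0, 0, 1, 0, 0, 0, 0]],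
    19926506292869807223416076, 19926505174816427673494785⟩

theorem certA17_ok : certA17.Ok where
  hp := by norm_num
  hp3 := by norm_num
  hn := by decide +kernel
  c_sq := by decide +kernel
  cover := by decide +kernel
  points := by decide +kernel
  ne := by decide +kernel
  cne := by decide +kernel
  v_even := by decide +kernel
  v_supp := by decide +kernel
  g1_even := by decide +kernel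
  g1_supp := by decide +kernel
  g_even := by decide +kernel
  g_supp := by decide +kernel
  f1_even := by decide +kernel
  f1_supp := by decide +kernel
  f1_sq := by decide +kernel
  vm := by decide +kernel
  cop := by decide +kernel
  comm := by decide +kernel
  conj := by decide +kernel
  exA := by decide +kernel
  exB := by decide +kernel
  tabs := by decide +kernel
  genI := by decide +kernel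
  genA := by decide +kernel
  genB := by decide +kernel

/-- Certificate. -/
def certS17 : Cert 13 17 :=
  ⟨[(1, 7), (2, 10), (6, 11), (13, 15), (14, 16)], [(0, 9), (9, 7), (7, 10), (10, 3), (3, 11), (11, 8), (8, 5), (5, 2), (2, 4), (4, 12)], [(6, 14), (14, 13)], [(6, 14), (14, 13)], [], [],
    2, 5, 10, 4, 0, 1, 11,
    [[(2, 5), (5, 6)]], [[(2, 4), (4, 6)]],
    [[], [], [1, 0, 1, 0, 0, 1, 1, 0, 0, 1, 1, 0, 0, 1, 1, 0, 0, 1, 1, 0, 0, 1, 0, 0, 0, 0, 0, 0, 0, 0, 0, 0, 1, 1, 1, 1, 1, 1, 1, 1, 1, 1], [1, 1, 1, 0, 0, 1, 1, 0, 0, 1, 1, 0, 0, 1, 1, 0, 0, 1, 1, 0, 0, 1, 1, 1, 1, 1, 1, 1, 1, 1, 1, 1, 1, 1, 1, 1, 1, 1, 1, 1, 1, 1], [1, 0, 0, 1, 1, 0, 0, 1, 1, 0, 0, 1, 1, 0, 0, 1, 1, 0, 0, 1], [1, 0, 0, 1, 1, 0, 0, 0, 1, 0, 0, 1, 1, 0, 0, 1, 1, 0, 0, 1, 1, 0, 0, 1, 1,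 0, 0, 1, 0, 0, 0, 0, 0, 0, 0, 0, 0, 0, 0, 0, 0, 0, 0, 0, 0, 0, 0, 0, 0, 0, 0, 0, 0, 0, 0, 0, 0, 0, 1, 1, 1, 1, 1, 1, 1, 1, 1, 1, 1, 1, 1, 1, 1, 1, 1, 1, 1, 1, 0, 0, 0, 0, 0, 0, 0, 0, 0, 0, 0, 0, 0, 0, 0, 0, 0, 0, 0, 0, 1, 1, 1, 1, 1, 1, 1, 1, 1, 1], [0, 0, 1, 0, 0, 1, 0, 1, 1, 0, 0, 1, 1, 0, 0, 1, 1, 0, 0, 1, 1, 0, 0, 1, 1, 0, 0, 1, 1, 1, 1, 1, 1, 1, 1, 1, 1, 1, 0, 0, 0, 0, 0, 0, 0, 0, 0, 0, 1, 1, 1, 1, 1, 1, 1, 1, 1, 1, 0, 0, 0, 0, 0, 0, 0, 0, 0, 0, 0, 0, 0, 0, 0, 0, 0, 0, 0, 0, 1, 1, 1, 1, 1, 1, 1, 1, 1, 1, 0, 0, 0, 0, 0, 0, 0, 0, 0, 0, 0, 0, 0, 0, 0, 0, 0, 0, 0, 0, 0, 0, 1, 0, 0, 1, 0, 1, 1, 0, 0, 1, 1, 0, 0, 1, 1, 0, 0, 1, 1, 0, 0, 1, 1, 0, 0, 1, 1, 1, 1, 1, 1, 1, 1, 1, 1, 1, 0, 0, 0, 0, 0, 0, 0, 0, 0, 0, 1, 1, 1, 1, 1, 1, 1, 1, 1, 1, 0, 0, 0, 0, 0, 0, 0,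 0, 0, 0, 0, 0, 0, 0, 0, 0, 0, 0, 0, 0, 1, 1, 1, 1, 1, 1, 1, 1, 1, 1, 0, 0, 0, 0, 0, 0, 0, 0, 0, 0, 0, 0, 0, 0, 0, 0, 0, 0, 0, 0], [0, 0, 1, 0, 0, 1, 1, 0, 0, 1, 1, 0, 0, 1, 1, 0, 0, 1, 1, 0, 0, 1, 0, 0, 0, 0, 0, 0, 0, 0, 0, 0, 0, 0, 0, 0, 0, 0, 0, 0, 0, 0, 0, 0, 1, 0, 0, 1, 1, 0, 0, 1, 1, 0, 0, 1, 1, 0, 0, 1, 1, 0, 0, 1, 0, 0, 0, 0, 0, 0, 0, 0, 0, 0, 0, 0, 0, 0, 0, 0, 0, 0, 0, 0], [1, 0, 1, 0, 0, 1, 0, 0, 1, 0, 0, 1, 1, 0, 0, 1, 1, 0, 0, 1, 1, 0, 0, 1, 1, 0, 0, 1, 0, 0, 0, 0, 0, 0, 0, 0, 0, 0, 0, 0, 0, 0, 0, 0, 0, 0, 0, 0, 1, 1, 1, 1, 1, 1, 1, 1, 1, 1, 0, 0, 0, 0, 0, 0, 0, 0, 0, 0, 0, 0, 0, 0, 0, 0, 0, 0, 0, 0, 1, 1, 1, 1, 1, 1, 1, 1, 1, 1, 0, 0, 0, 0, 0, 0, 0, 0, 0, 0, 1, 1, 1, 1, 1, 1, 1, 1, 1, 1, 1, 0, 1, 0, 0, 1, 0, 0, 1, 0, 0, 1, 1, 0, 0, 1, 1, 0, 0, 1,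 1, 0, 0, 1, 1, 0, 0, 1, 0, 0, 0, 0, 0, 0, 0, 0, 0, 0, 0, 0, 0, 0, 0, 0, 0, 0, 0, 0, 1, 1, 1, 1, 1, 1, 1, 1, 1, 1, 0, 0, 0, 0, 0, 0, 0, 0, 0, 0, 0, 0, 0, 0, 0, 0, 0, 0, 0, 0, 1, 1, 1, 1, 1, 1, 1, 1, 1, 1, 0, 0, 0, 0, 0, 0, 0, 0, 0, 0, 1, 1, 1, 1, 1, 1, 1, 1, 1, 1], [0, 0, 0, 1, 0, 0, 0, 1, 0, 0, 1, 1, 0, 0, 1, 1, 0, 0, 1, 1, 0, 0, 1, 1, 0, 0, 1, 0, 0, 0, 0, 0, 0, 0, 0, 0, 0, 0, 0, 0, 0, 0, 0, 0, 0, 0, 0, 0, 0, 0, 0, 0, 0, 0, 0, 0, 0, 1, 1, 1, 1, 1, 1, 1, 1, 1, 1, 0, 0, 0, 0, 0, 0, 0, 0, 0, 0, 0, 0, 0, 0, 0, 0, 0, 0, 0, 0, 0, 0, 0, 0, 0, 0, 0, 0, 0, 0], [0, 0, 0, 1, 0, 1, 0, 0, 1, 1, 0, 0, 1, 1, 0, 0, 1, 1, 0, 0, 1, 1, 0, 0, 1, 0, 0, 0, 0, 0, 0, 0, 0, 0, 0, 1, 1, 1, 1, 1, 1, 1, 1, 1, 1, 0, 0, 0, 0, 0, 0, 0, 0, 0, 0, 0, 0, 0, 0, 0, 0, 0, 0, 0, 0, 0, 0, 0, 0, 0,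 0, 0, 0, 0, 0, 0, 0, 0, 1, 0, 1, 0, 0, 1, 1, 0, 0, 1, 1, 0, 0, 1, 1, 0, 0, 1, 1, 0, 0, 1, 0, 0, 0, 0, 0, 0, 0, 0, 0, 0, 1, 1, 1, 1, 1, 1, 1, 1, 1, 1, 0, 0, 0, 0, 0, 0, 0, 0, 0, 0, 0, 0, 0, 0, 0, 0, 0, 0, 0, 0, 0, 0, 0, 0, 0, 0, 0, 0, 0, 0], [1, 1, 0, 1, 1, 0, 0, 0, 1, 0, 0, 1, 1, 0, 0, 1, 1, 0, 0, 1, 1, 0, 0, 1, 1, 0, 0, 1, 0, 0, 0, 0, 0, 0, 0, 0, 0, 0, 0, 0, 0, 0, 0, 0, 0, 0, 0, 0, 0, 0, 0, 0, 0, 0, 0, 0, 0, 0, 1, 1, 1, 1, 1, 1, 1, 1, 1, 1, 1, 1, 1, 1, 1, 1, 1, 1, 1, 1, 0, 0, 0, 0, 0, 0, 0, 0, 0, 0, 1, 1, 1, 1, 1, 1, 1, 1, 1, 1, 1, 1, 1, 1, 1, 1, 1, 1, 1, 1], [0, 0, 1, 0, 0, 0, 1, 0, 0, 1, 1, 0, 0, 1, 1, 0, 0, 1, 1, 0, 0, 1, 1, 0, 0, 1, 0, 0, 0, 0, 0, 0, 0, 0, 0, 0, 0, 0, 0, 0, 0, 0, 0, 0, 0, 0, 0, 0, 0, 0, 0, 0, 0, 0, 0, 0, 1, 1, 1, 1, 1, 1, 1, 1, 1, 1, 0,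 0, 0, 0, 0, 0, 0, 0, 0, 0, 0, 0, 0, 0, 0, 0, 0, 0, 0, 0, 0, 0, 1, 0, 0, 0, 1, 0, 0, 1, 1, 0, 0, 1, 1, 0, 0, 1, 1, 0, 0, 1, 1, 0, 0, 1, 0, 0, 0, 0, 0, 0, 0, 0, 0, 0, 0, 0, 0, 0, 0, 0, 0, 0, 0, 0, 0, 0, 0, 0, 0, 0, 0, 0, 0, 0, 1, 1, 1, 1, 1, 1, 1, 1, 1, 1, 0, 0, 0, 0, 0, 0, 0, 0, 0, 0, 0, 0, 0, 0, 0, 0, 0, 0, 0, 0]],
    [[], [], [], [], [], [], [], [], [], [], [], [], [], [0, 0, 1, 0, 0, 0, 0], [0, 1, 0, 0]],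
    [[], [], [], [], [], [], [], [], [], [], [], [], [], [0, 0, 1, 0, 0, 0, 0], [0, 1, 0, 0]],
    19926505281674598582423593, 19926505390675682650164297⟩

theorem certS17_ok : certS17.Ok where
  hp := by norm_num
  hp3 := by norm_num
  hn := by decide +kernel
  c_sq := by decide +kernel
  cover := by decide +kernel
  points := by decide +kernel
  ne := by decide +kernel
  cne := by decide +kernel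
  v_even := by decide +kernel
  v_supp := by decide +kernel
  g1_even := by decide +kernel
  g1_supp := by decide +kernel
  g_even := by decide +kernel
  g_supp := by decide +kernel
  f1_even := by decide +kernel
  f1_supp := by decide +kernel
  f1_sq := by decide +kernel
  vm := by decide +kernel
  cop := by decide +kernel
  comm := by decide +kernel
  conj := by decide +kernel
  exA := by decide +kernel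
  exB := by decide +kernel
  tabs := by decide +kernel
  genI := by decide +kernel
  genA := by decide +kernel
  genB := by decide +kernel

/-- Certificate. -/
def certS18 : Cert 13 18 :=
  ⟨[(0, 8), (1, 2), (3, 6), (4, 9), (5, 11), (7, 10), (12, 15), (13, 16), (14, 17)], [(0, 5), (5, 2), (2, 3), (3, 8), (8, 10), (10, 1), (1, 11), (11, 4), (4, 6), (6, 7)], [(0, 14), (14, 1), (9, 13), (13, 12)], [(0, 14), (14, 1), (9, 13), (13, 12)], [], [],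
    1, 6, 11, 2, 0, 1, 11,
    [[(1, 9), (9, 6)], [(0, 1), (9, 10)], [(0, 10), (10, 7)], [(1, 7), (6, 10)], [(0, 9), (9, 6)]], [[(0, 1), (1, 4)], [(0, 5), (5, 9)], [(1, 4), (4, 9)], [(0, 1), (4, 5)]],
    [[], [], [0, 0, 0, 1, 0, 1, 1, 1, 0, 1, 0, 1, 0, 1, 0, 1, 0, 1, 1, 1, 1, 1, 1, 1, 1, 1, 1, 1, 1, 1, 1, 1, 1, 1, 1, 1, 1, 0, 0, 0, 0, 0, 0, 0, 0, 0, 0, 1, 1, 1, 1, 1, 1, 1, 1, 1, 1, 0, 0, 0, 0, 0, 0, 0, 0, 0, 0, 0, 0, 0, 0, 0, 0, 0, 0, 0, 0, 0, 0, 0, 0, 0, 0, 0, 0, 0, 0], [0, 0, 1, 1, 0, 0, 0, 0, 0, 1, 0, 1, 0, 1, 0, 1, 0, 1, 0, 0, 0, 0, 0, 0, 0, 0, 0, 0, 0, 0, 0, 0, 0, 0, 0, 0, 0, 0, 0, 0, 0, 0, 0, 0, 0, 0, 0, 0, 0, 0, 0, 0, 0, 0, 0, 0, 0, 0, 0, 0, 0, 0, 0, 0, 0, 0, 0, 0, 0, 1, 1, 1, 1, 1, 1, 1, 1, 1, 1, 1, 1, 1, 1, 1, 1, 1, 1, 1, 1, 0, 0, 0, 0, 0, 0, 0, 0,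 0, 0, 0, 0, 0, 0, 0, 0, 0, 0, 0, 0], [0, 1, 1, 0, 1, 0, 0, 0, 1, 0, 1, 0, 1, 0, 1, 0, 1, 0, 0, 0, 0, 0, 0, 0, 0, 0, 0, 0, 0, 0, 0, 0, 0, 0, 0, 0, 0, 0, 0, 0, 0, 0, 0, 0, 0, 0, 0, 0, 1, 1, 1, 1, 1, 1, 1, 1, 1, 1, 0, 0, 0, 0, 0, 0, 0, 0, 0, 0, 1, 1, 1, 1, 1, 1, 1, 1, 1, 1, 1, 1, 1, 1, 1, 1, 1, 1, 1, 1, 0, 0, 0, 0, 0, 0, 0, 0, 0, 0, 0, 1, 1, 0, 1, 0, 0, 0, 1, 0, 1, 0, 1, 0, 1, 0, 1, 0, 0, 0, 0, 0, 0, 0, 0, 0, 0, 0, 0, 0, 0, 0, 0, 0, 0, 0, 0, 0, 0, 0, 0, 0, 0, 0, 0, 0, 0, 0, 1, 1, 1, 1, 1, 1, 1, 1, 1, 1, 0, 0, 0, 0, 0, 0, 0, 0, 0, 0, 1, 1, 1, 1, 1, 1, 1, 1, 1, 1, 1, 1, 1, 1, 1, 1, 1, 1, 1, 1, 0, 0, 0, 0, 0, 0, 0, 0, 0, 0], [1, 1, 0, 1, 0, 0, 1, 0, 1, 1, 0, 1, 0, 1, 0, 1, 0, 1, 0, 1, 1, 1, 1, 1, 1, 1, 1, 1, 1, 0, 0, 0, 0, 0, 0, 0, 0, 0, 0, 1, 1, 1, 1, 1, 1, 1, 1,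 1, 1, 0, 0, 0, 0, 0, 0, 0, 0, 0, 0, 0, 0, 0, 0, 0, 0, 0, 0, 0, 0, 1, 1, 1, 1, 1, 1, 1, 1, 1, 1, 0, 0, 0, 0, 0, 0, 0, 0, 0, 0, 1, 1, 1, 1, 1, 1, 1, 1, 1, 1, 1, 1, 1, 1, 1, 1, 1, 1, 1, 1], [1, 0, 1, 1, 1, 0, 0, 0, 1, 0, 1, 0, 1, 0, 1, 0, 1, 0, 0, 0, 0, 0, 0, 0, 0, 0, 0, 0, 0, 0, 0, 0, 0, 0, 0, 0, 0, 0, 0, 0, 0, 0, 0, 0, 0, 0, 0, 0, 1, 1, 1, 1, 1, 1, 1, 1, 1, 1, 1, 1, 1, 1, 1, 1, 1, 1, 1, 1, 1, 1, 1, 1, 1, 1, 1, 1, 1, 1, 0, 0, 0, 0, 0, 0, 0, 0, 0, 0, 1, 1, 1, 1, 1, 1, 1, 1, 1, 1], [1, 0, 1, 0, 1, 0, 0, 1, 0, 1, 0, 1, 0, 1, 0, 1, 0, 0, 0, 0, 0, 0, 0, 0, 0, 0, 0, 0, 0, 0, 0, 0, 0, 0, 0, 0, 0, 1, 1, 1, 1, 1, 1, 1, 1, 1, 1, 0, 0, 0, 0, 0, 0, 0, 0, 0, 0, 1, 1, 1, 1, 1, 1, 1, 1, 1, 1, 0, 0, 0, 0, 0, 0, 0, 0, 0, 0, 1, 1, 1, 1, 1, 1, 1, 1, 1, 1, 1, 0, 1, 0, 1, 0, 0, 1,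 0, 1, 0, 1, 0, 1, 0, 1, 0, 0, 0, 0, 0, 0, 0, 0, 0, 0, 0, 0, 0, 0, 0, 0, 0, 0, 0, 0, 0, 1, 1, 1, 1, 1, 1, 1, 1, 1, 1, 0, 0, 0, 0, 0, 0, 0, 0, 0, 0, 1, 1, 1, 1, 1, 1, 1, 1, 1, 1, 0, 0, 0, 0, 0, 0, 0, 0, 0, 0, 1, 1, 1, 1, 1, 1, 1, 1, 1, 1], [0, 1, 1, 0, 0, 1, 1, 1, 0, 1, 0, 1, 0, 1, 0, 1, 0, 1, 1, 1, 1, 1, 1, 1, 1, 1, 1, 1, 1, 1, 1, 1, 1, 1, 1, 1, 1, 0, 0, 0, 0, 0, 0, 0, 0, 0, 0, 0, 0, 0, 0, 0, 0, 0, 0, 0, 0, 1, 1, 1, 1, 1, 1, 1, 1, 1, 1, 1, 1, 1, 1, 1, 1, 1, 1, 1, 1, 0, 0, 0, 0, 0, 0, 0, 0, 0, 0], [1, 0, 0, 1, 1, 0, 1, 0, 0, 0, 1, 0, 1, 0, 1, 0, 1, 0, 1, 0, 0, 0, 0, 0, 0, 0, 0, 0, 0, 0, 0, 0, 0, 0, 0, 0, 0, 0, 0, 0, 0, 0, 0, 0, 0, 0, 0, 0, 0, 0, 1, 1, 1, 1, 1, 1, 1, 1, 1, 1, 0, 0, 0, 0, 0, 0, 0, 0, 0, 0, 1, 1, 1, 1, 1, 1, 1, 1, 1, 1, 1, 1, 1, 1, 1, 1, 1, 1, 1,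 1, 0, 0, 0, 0, 0, 0, 0, 0, 0, 0, 0, 0, 0, 0, 0, 0, 0, 0, 0, 0, 1, 1, 1, 1, 1, 1, 1, 1, 1, 1], [1, 0, 1, 1, 0, 0, 0, 0, 0, 0, 1, 0, 1, 0, 1, 0, 1, 0, 1, 0, 0, 0, 0, 0, 0, 0, 0, 0, 0, 0, 0, 0, 0, 0, 0, 0, 0, 0, 0, 0, 0, 0, 0, 0, 0, 0, 0, 0, 0, 0, 0, 0, 0, 0, 0, 0, 0, 0, 0, 0, 0, 0, 0, 0, 0, 0, 0, 0, 0, 0, 0, 0, 0, 0, 0, 0, 0, 0, 0, 0, 1, 1, 1, 1, 1, 1, 1, 1, 1, 1, 1, 1, 1, 1, 1, 1, 1, 1, 1, 1, 0, 0, 0, 0, 0, 0, 0, 0, 0, 0, 1, 1, 1, 1, 1, 1, 1, 1, 1, 1], [0, 1, 0, 0, 1, 0, 0, 1, 1, 0, 1, 0, 1, 0, 1, 0, 1, 0, 1, 1, 1, 1, 1, 1, 1, 1, 1, 1, 0, 0, 0, 0, 0, 0, 0, 0, 0, 0, 0, 0, 0, 0, 0, 0, 0, 0, 0, 0, 1, 1, 1, 1, 1, 1, 1, 1, 1, 1, 0, 0, 0, 0, 0, 0, 0, 0, 0, 0, 0, 0, 0, 0, 0, 0, 0, 0, 0, 0, 1, 1, 1, 1, 1, 1, 1, 1, 1, 1, 0, 0, 0, 0, 0, 0, 0, 0, 0, 0, 0, 1, 0, 0, 1, 0,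 0, 1, 1, 0, 1, 0, 1, 0, 1, 0, 1, 0, 1, 1, 1, 1, 1, 1, 1, 1, 1, 1, 0, 0, 0, 0, 0, 0, 0, 0, 0, 0, 0, 0, 0, 0, 0, 0, 0, 0, 0, 0, 1, 1, 1, 1, 1, 1, 1, 1, 1, 1, 0, 0, 0, 0, 0, 0, 0, 0, 0, 0, 0, 0, 0, 0, 0, 0, 0, 0, 0, 0, 1, 1, 1, 1, 1, 1, 1, 1, 1, 1, 0, 0, 0, 0, 0, 0, 0, 0, 0, 0]],
    [[], [], [], [], [], [], [], [], [], [], [], [], [0, 0, 5, 0, 0, 0, 0, 0, 0, 5, 0, 0, 0, 0], [2, 0, 1, 0, 0, 2, 2, 0, 1, 0, 0, 2], [4, 0, 3, 0, 0, 4, 4, 0, 3, 0, 0, 4]],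
    [[], [], [], [], [], [], [], [], [], [], [], [], [0, 0, 2, 0, 0, 0, 0, 0, 0, 2, 0, 0, 0, 0], [4, 0, 3, 0, 0, 4, 4, 0, 3, 0, 0, 4], [4, 0, 1, 0, 0, 4, 4, 0, 1, 0, 0, 4]],
    677582164840799460787490149, 677582164740384423793726663⟩

theorem certS18_ok : certS18.Ok where
  hp := by norm_num
  hp3 := by norm_num
  hn := by decide +kernel
  c_sq := by decide +kernel
  cover := by decide +kernel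
  points := by decide +kernel
  ne := by decide +kernel
  cne := by decide +kernel
  v_even := by decide +kernel
  v_supp := by decide +kernel
  g1_even := by decide +kernel
  g1_supp := by decide +kernel
  g_even := by decide +kernel
  g_supp := by decide +kernel
  f1_even := by decide +kernel
  f1_supp := by decide +kernel
  f1_sq := by decide +kernel
  vm := by decide +kernel
  cop := by decide +kernel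
  comm := by decide +kernel
  conj := by decide +kernel
  exA := by decide +kernel
  exB := by decide +kernel
  tabs := by decide +kernel
  genI := by decide +kernel
  genA := by decide +kernel
  genB := by decide +kernel

theorem small_sym {n : ℕ} (hn : 5 ≤ n) (hn' : n < 19) (h1 : n ≠ 15) (h2 : n ≠ 16) :
    HasSym (Fin n) := by
  interval_cases n
  · exact certS5_ok.has_sym (by decide +kernel)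
  · exact certS6_ok.has_sym (by decide +kernel)
  · exact certS7_ok.has_sym (by decide +kernel)
  · exact certS8_ok.has_sym (by decide +kernel)
  · exact certS9_ok.has_sym (by decide +kernel)
  · exact certS10_ok.has_sym (by decide +kernel)
  · exact certS11_ok.has_sym (by decide +kernel)
  · exact certS12_ok.has_sym (by decide +kernel)
  · exact certS13_ok.has_sym (by decide +kernel)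
  · exact certS14_ok.has_sym (by decide +kernel)
  · omega
  · omega
  · exact certS17_ok.has_sym (by decide +kernel)
  · exact certS18_ok.has_sym (by decide +kernel)

theorem small_alt {n : ℕ} (hn : 5 ≤ n) (hn' : n < 19) (h1 : n ≠ 15) (h2 : n ≠ 16) :
    HasAlt (Fin n) := by
  interval_cases n
  · exact certA5_ok.has_alt (by decide +kernel)
  · exact certA6_ok.has_alt (by decide +kernel)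
  · exact certA7_ok.has_alt (by decide +kernel)
  · exact certA8_ok.has_alt (by decide +kernel)
  · exact certA9_ok.has_alt (by decide +kernel)
  · exact Params.has_alt ⟨7, 1, 3, 5, by norm_num, by norm_num, by norm_num, by norm_num, by norm_num, by norm_num, by norm_num, by norm_num⟩ (by norm_num)
  · exact certA11_ok.has_alt (by decide +kernel)
  · exact certA12_ok.has_alt (by decide +kernel)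
  · exact certA13_ok.has_alt (by decide +kernel)
  · exact certA14_ok.has_alt (by decide +kernel)
  · omega
  · omega
  · exact certA17_ok.has_alt (by decide +kernel)
  · exact Params.has_alt ⟨13, 3, 5, 7, by norm_num, by norm_num, by norm_num, by norm_num, by norm_num, by norm_num, by norm_num, by norm_num⟩ (by norm_num)

theorem has37_all {n : ℕ} (hn : 5 ≤ n) :
    HasSym (Fin n) ∧ HasAlt (Fin n) := by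
  by_cases h : 19 ≤ n ∨ n = 15 ∨ n = 16
  · exact cover h
  · exact ⟨small_sym hn (by omega) (by omega) (by omega), small_alt hn (by omega) (by omega) (by omega)⟩

end CfsgLib.AltPres54
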