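import Mathlib
import Cfsg.Agent.AltPres54.Carmichael

/-!
Two-generator presentations in degree at most four.
-/

set_option autoImplicit false
set_option linter.style.haveILetI false

open Equiv

namespace CfsgLib.AltPres54

/-- A presentation with two generators and at most eight relators. -/
def Has28 (G : Type*) [Group G] : Prop :=
  ∃ rels : Finset (FreeGroup (Fin 2)), rels.card ≤ 8 ∧
    Nonempty (PresentedGroup (↑rels : Set (FreeGroup (Fin 2))) ≃* G)

theorem has28_of_subsingleton (G : Type*) [Group G] [Subsingleton G] : Has28 G := by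
  classical
  set R : Finset (FreeGroup (Fin 2)) := {FreeGroup.of 0, FreeGroup.of 1} with hR
  have h : ∀ i, PresentedGroup.mk (↑R : Set (FreeGroup (Fin 2))) (FreeGroup.of i) = 1 := fun i =>
    PresentedGroup.one_of_mem (by fin_cases i <;> simp [hR])
  refine ⟨R, (Finset.card_le_two).trans (by norm_num), ⟨MonoidHom.toMulEquiv 1 1 ?_ ?_⟩⟩
  · refine PresentedGroup.ext fun i => ?_
    exact (h i).symm
  · exact MonoidHom.ext fun x => Subsingleton.elim _ _

theorem has28_of_inverse {G : Type*} [Group G] (L : List (FreeGroup (Fin 2))) (hL : L.length ≤ 8)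
    (b : Fin 2 → G) (hsat : ∀ r ∈ L, FreeGroup.lift b r = 1)
    (hinv : ∀ (P : Type) [Group P] (π : FreeGroup (Fin 2) →* P), (∀ r ∈ L, π r = 1) →
      ∃ g : G →* P, ∀ i, g (b i) = π (FreeGroup.of i))
    (hgen : Subgroup.closure (Set.range b) = ⊤) : Has28 G := by
  classical
  set R := L.toFinset with hR
  refine ⟨R, (List.toFinset_card_le L).trans hL, ?_⟩
  have hs : ∀ r ∈ (↑R : Set (FreeGroup (Fin 2))), FreeGroup.lift b r = 1 := fun r hr =>
    hsat r (List.mem_toFinset.1 hr)
  obtain ⟨g, hg⟩ := hinv _ (PresentedGroup.mk (↑R : Set (FreeGroup (Fin 2)))) fun r hr =>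
    PresentedGroup.one_of_mem (List.mem_toFinset.2 hr)
  refine ⟨MonoidHom.toMulEquiv (PresentedGroup.toGroup hs) g ?_ ?_⟩
  · refine PresentedGroup.ext fun i => ?_
    rw [MonoidHom.comp_apply, PresentedGroup.toGroup.of, hg]
    rfl
  · refine MonoidHom.eq_of_eqOn_dense hgen ?_
    rintro _ ⟨i, rfl⟩
    rw [MonoidHom.comp_apply, MonoidHom.id_apply, hg]
    exact PresentedGroup.toGroup.of hs

theorem has28_sym_two : Has28 (Perm (Fin 2)) := by
  refine has28_of_inverse [FreeGroup.of 0 ^ 2, FreeGroup.of 1] (by simp) ![swap 0 1, 1]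
    (by simp [List.forall_mem_cons, pow_two]) (fun P _ π hπ => ?_) ?_
  · simp only [List.forall_mem_cons, map_pow] at hπ
    obtain ⟨h2, h1, -⟩ := hπ
    rw [pow_two] at h2
    have hall : ∀ σ : Perm (Fin 2), σ = 1 ∨ σ = swap 0 1 := by decide
    refine ⟨MonoidHom.mk' (fun σ => if σ = 1 then 1 else π (FreeGroup.of 0)) fun σ τ => ?_, fun i => ?_⟩
    · have hne : (swap 0 1 : Perm (Fin 2)) ≠ 1 := by decide
      rcases hall σ with rfl | rfl <;> rcases hall τ with rfl | rfl <;> simp [hne, h2]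
    · have hne : (swap 0 1 : Perm (Fin 2)) ≠ 1 := by decide
      fin_cases i <;> simp [hne, h1]
  · refine (Subgroup.eq_top_iff' _).2 fun σ => ?_
    have hall : ∀ τ : Perm (Fin 2), τ = 1 ∨ τ = swap 0 1 := by decide
    rcases hall σ with rfl | rfl
    · exact one_mem _
    · exact Subgroup.subset_closure ⟨0, rfl⟩

/-- Extending a homomorphism from the alternating group across an odd involution. -/
theorem extend_sym {n : ℕ} {P : Type*} [Group P] (Φ : alternatingGroup (Fin n) →* P)
    (t : Perm (Fin n)) (ht : t * t = 1) (hts : Perm.sign t = -1) (c : P) (hc : c * c = 1)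
    (h : ∀ σ τ : alternatingGroup (Fin n), τ.1 = t * σ.1 * t → c * Φ σ * c = Φ τ) :
    ∃ Ψ : Perm (Fin n) →* P, (∀ σ : alternatingGroup (Fin n), Ψ σ.1 = Φ σ) ∧ Ψ t = c := by
  classical
  have hodd : ∀ σ, Perm.sign σ ≠ 1 → σ * t ∈ alternatingGroup (Fin n) := fun σ hσ => by
    rw [Perm.mem_alternatingGroup, map_mul, (Int.units_eq_one_or _).resolve_left hσ, hts]; rfl
  let f : Perm (Fin n) → P := fun σ =>
    if hσ : Perm.sign σ = 1 then Φ ⟨σ, hσ⟩ else Φ ⟨σ * t, hodd σ hσ⟩ * c
  have fe : ∀ σ (hσ : Perm.sign σ = 1), f σ = Φ ⟨σ, hσ⟩ := fun σ hσ => dif_pos hσ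
  have fo : ∀ (α : alternatingGroup (Fin n)), f (α.1 * t) = Φ α * c := fun α => by
    have hs : Perm.sign (α.1 * t) ≠ 1 := by
      rw [map_mul, α.2, one_mul, hts]; decide
    simp only [f, dif_neg hs]
    refine congrArg (Φ · * c) (Subtype.ext ?_)
    change α.1 * t * t = α.1
    rw [mul_assoc, ht, mul_one]
  have hsplit : ∀ σ, (∃ α : alternatingGroup (Fin n), σ = α.1) ∨
      ∃ α : alternatingGroup (Fin n), σ = α.1 * t := fun σ => by
    by_cases hσ : Perm.sign σ = 1
    · exact Or.inl ⟨⟨σ, hσ⟩, rfl⟩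
    · exact Or.inr ⟨⟨σ * t, hodd σ hσ⟩, by
        change σ = σ * t * t
        rw [mul_assoc, ht, mul_one]⟩
  have hconj : ∀ β : alternatingGroup (Fin n), t * β.1 * t ∈ alternatingGroup (Fin n) := fun β => by
    rw [Perm.mem_alternatingGroup, map_mul, map_mul, β.2, hts]; rfl
  have fe' : ∀ α : alternatingGroup (Fin n), f α.1 = Φ α := fun α => fe _ α.2
  refine ⟨MonoidHom.mk' f fun σ τ => ?_, fe', ?_⟩
  · have hcΦ : ∀ β, c * Φ β = Φ ⟨_, hconj β⟩ * c := fun β => by
      rw [← h β ⟨_, hconj β⟩ rfl, mul_assoc _ c c, hc, mul_one]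
    rcases hsplit σ with ⟨α, rfl⟩ | ⟨α, rfl⟩ <;> rcases hsplit τ with ⟨β, rfl⟩ | ⟨β, rfl⟩
    · rw [← Subgroup.coe_mul, fe', fe', fe', map_mul]
    · rw [← mul_assoc, ← Subgroup.coe_mul, fo, fe', fo, map_mul, mul_assoc]
    · rw [show α.1 * t * β.1 = (α * ⟨_, hconj β⟩ : alternatingGroup (Fin n)).1 * t by
        simp only [Subgroup.coe_mul, mul_assoc, ht, mul_one], fo, fo, fe', map_mul, mul_assoc,
        ← hcΦ, ← mul_assoc]
    · rw [show α.1 * t * (β.1 * t) = (α * ⟨_, hconj β⟩ : alternatingGroup (Fin n)).1 by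
        simp only [Subgroup.coe_mul, mul_assoc], fe', fo, fo, map_mul,
        mul_assoc (Φ α) c (Φ β * c), ← mul_assoc c (Φ β) c, h β ⟨_, hconj β⟩ rfl]
  · change f t = c
    have := fo 1
    rwa [map_one, Subgroup.coe_one, one_mul, one_mul] at this

theorem exists_hom_alt {n : ℕ} {P : Type*} [Group P] (a b : Fin n) (hab : a ≠ b) (x : Fin n → P)
    (h3 : ∀ i ∈ (Finset.univ : Finset (Fin n)), i ≠ a → i ≠ b → x i ^ 3 = 1)
    (h2 : ∀ i ∈ (Finset.univ : Finset (Fin n)), ∀ j ∈ (Finset.univ : Finset (Fin n)),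
      i ≠ a → i ≠ b → j ≠ a → j ≠ b → i ≠ j → (x i * x j) ^ 2 = 1) :
    ∃ Φ : alternatingGroup (Fin n) →* P, ∀ i (_ : i ≠ a) (hib : i ≠ b),
      Φ ⟨tri a b i, sign_tri hab hib.symm⟩ = x i := by
  obtain ⟨φ, hφ⟩ := exists_hom (Finset.mem_univ a) (Finset.mem_univ b) hab x h3 h2
  exact ⟨φ.comp (Subgroup.inclusion altOn_univ.ge), fun i hia hib => hφ i (Finset.mem_univ i) hia hib⟩

theorem hom_ext_alt {n : ℕ} {P : Type*} [Group P] (a b : Fin n) (hab : a ≠ b)
    (f g : alternatingGroup (Fin n) →* P)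
    (h : ∀ i (_ : i ≠ a) (hib : i ≠ b), f ⟨tri a b i, sign_tri hab hib.symm⟩ =
      g ⟨tri a b i, sign_tri hab hib.symm⟩) : f = g := by
  have := hom_ext (Finset.mem_univ a) (Finset.mem_univ b) hab
    (f.comp (Subgroup.inclusion altOn_univ.le)) (g.comp (Subgroup.inclusion altOn_univ.le))
    fun i _ hia hib => h i hia hib
  exact MonoidHom.ext fun σ => DFunLike.congr_fun this ⟨σ.1, altOn_univ.ge σ.2⟩

theorem has28_alt_three : Has28 (alternatingGroup (Fin 3)) := by
  refine has28_of_inverse [FreeGroup.of 0 ^ 3, FreeGroup.of 1] (by simp)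
    ![⟨tri 0 1 2, sign_tri (by decide) (by decide)⟩, 1] ?_ (fun P _ π hπ => ?_) ?_
  · simp only [List.forall_mem_cons, List.not_mem_nil, IsEmpty.forall_iff, forall_const, and_true,
      map_pow, FreeGroup.lift_apply_of, Matrix.cons_val_zero, Matrix.cons_val_one]
    exact Subtype.ext (tri_pow_three (by decide) (by decide) (by decide))
  · simp only [List.forall_mem_cons, map_pow] at hπ
    obtain ⟨h3, h1, -⟩ := hπ
    obtain ⟨Φ, hΦ⟩ := exists_hom_alt (0 : Fin 3) 1 (by decide) (fun _ => π (FreeGroup.of 0))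
      (fun i _ _ _ => h3) (fun i _ j _ hi hi' hj hj' hij => by omega)
    refine ⟨Φ, fun i => ?_⟩
    fin_cases i
    · exact hΦ 2 (by decide) (by decide)
    · exact (map_one Φ).trans h1.symm
  · refine (Subgroup.eq_top_iff' _).2 fun σ => ?_
    obtain ⟨τ, hτ, e⟩ : (σ : Perm (Fin 3)) ∈ (Subgroup.closure (Set.range
        ![(⟨tri 0 1 2, sign_tri (by decide) (by decide)⟩ : alternatingGroup (Fin 3)), 1])).map
        (alternatingGroup (Fin 3)).subtype := by
      refine ((altOn_le_closure (Finset.mem_univ (0 : Fin 3)) (Finset.mem_univ 1) (by decide)).trans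
        ((Subgroup.closure_le _).2 ?_)) (altOn_univ.ge σ.2)
      rintro _ ⟨i, -, hia, hib, rfl⟩
      obtain rfl : i = 2 := by omega
      exact ⟨_, Subgroup.subset_closure ⟨0, rfl⟩, rfl⟩
    rwa [← Subtype.ext e]

theorem has28_alt_four : Has28 (alternatingGroup (Fin 4)) := by
  refine has28_of_inverse [FreeGroup.of 0 ^ 3, FreeGroup.of 1 ^ 3,
      (FreeGroup.of 0 * FreeGroup.of 1) ^ 2] (by simp)
    ![⟨tri 0 1 2, sign_tri (by decide) (by decide)⟩, ⟨tri 0 1 3, sign_tri (by decide) (by decide)⟩]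
    ?_ (fun P _ π hπ => ?_) ?_
  · simp only [List.forall_mem_cons, List.not_mem_nil, IsEmpty.forall_iff, forall_const, and_true,
      map_pow, map_mul, FreeGroup.lift_apply_of, Matrix.cons_val_zero, Matrix.cons_val_one]
    exact ⟨Subtype.ext (tri_pow_three (by decide) (by decide) (by decide)),
      Subtype.ext (tri_pow_three (by decide) (by decide) (by decide)),
      Subtype.ext (tri_mul_sq (by decide) (by decide) (by decide) (by decide) (by decide) (by decide))⟩
  · simp only [List.forall_mem_cons, map_pow, map_mul] at hπ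
    obtain ⟨h3, h3', h2, -⟩ := hπ
    set u := π (FreeGroup.of 0)
    set w := π (FreeGroup.of 1)
    have h2' : (w * u) ^ 2 = 1 := by
      have : (w * u) ^ 2 = u⁻¹ * (u * w) ^ 2 * u := by rw [pow_two, pow_two]; group
      rw [this, h2]; group
    obtain ⟨Φ, hΦ⟩ := exists_hom_alt (0 : Fin 4) 1 (by decide) (fun i => if i = 2 then u else w)
      (fun i _ _ _ => by split_ifs <;> assumption) (fun i _ j _ hi hi' hj hj' hij => by
        have hi2 : i = 2 ∨ i = 3 := by omega
        have hj2 : j = 2 ∨ j = 3 := by omega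
        rcases hi2 with rfl | rfl <;> rcases hj2 with rfl | rfl
        · exact absurd rfl hij
        · exact h2
        · exact h2'
        · exact absurd rfl hij)
    refine ⟨Φ, fun i => ?_⟩
    fin_cases i
    · exact hΦ 2 (by decide) (by decide)
    · exact hΦ 3 (by decide) (by decide)
  · refine (Subgroup.eq_top_iff' _).2 fun σ => ?_
    obtain ⟨τ, hτ, e⟩ : (σ : Perm (Fin 4)) ∈ (Subgroup.closure (Set.range
        ![(⟨tri 0 1 2, sign_tri (by decide) (by decide)⟩ : alternatingGroup (Fin 4)),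
          ⟨tri 0 1 3, sign_tri (by decide) (by decide)⟩])).map
        (alternatingGroup (Fin 4)).subtype := by
      refine ((altOn_le_closure (Finset.mem_univ (0 : Fin 4)) (Finset.mem_univ 1) (by decide)).trans
        ((Subgroup.closure_le _).2 ?_)) (altOn_univ.ge σ.2)
      rintro _ ⟨i, -, hia, hib, rfl⟩
      obtain rfl | rfl : i = 2 ∨ i = 3 := by omega
      · exact ⟨_, Subgroup.subset_closure ⟨0, rfl⟩, rfl⟩
      · exact ⟨_, Subgroup.subset_closure ⟨1, rfl⟩, rfl⟩
    rwa [← Subtype.ext e]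

theorem sym_closure_top {n : ℕ} (K : Subgroup (Perm (Fin n))) (hA : alternatingGroup (Fin n) ≤ K)
    {t : Perm (Fin n)} (ht : t ∈ K) (hts : Perm.sign t = -1) : K = ⊤ := by
  refine (Subgroup.eq_top_iff' _).2 fun σ => ?_
  rcases Int.units_eq_one_or (Perm.sign σ) with h | h
  · exact hA h
  · have h' : σ * t⁻¹ ∈ alternatingGroup (Fin n) := by
      rw [Perm.mem_alternatingGroup, map_mul, map_inv, h, hts, mul_inv_cancel]
    simpa using K.mul_mem (hA h') ht

theorem has28_sym_three : Has28 (Perm (Fin 3)) := by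
  refine has28_of_inverse [FreeGroup.of 0 ^ 3, FreeGroup.of 1 ^ 2,
      FreeGroup.of 1 * FreeGroup.of 0 * FreeGroup.of 1 * FreeGroup.of 0] (by simp)
    ![tri 0 1 2, swap 0 1] ?_ (fun P _ π hπ => ?_) ?_
  · simp only [List.forall_mem_cons, List.not_mem_nil, IsEmpty.forall_iff, forall_const, and_true,
      map_pow, map_mul, FreeGroup.lift_apply_of, Matrix.cons_val_zero, Matrix.cons_val_one]
    decide
  · simp only [List.forall_mem_cons, map_pow, map_mul] at hπ
    obtain ⟨h3, h2, h1, -⟩ := hπ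
    set u := π (FreeGroup.of 0)
    set c := π (FreeGroup.of 1)
    obtain ⟨Φ, hΦ⟩ := exists_hom_alt (0 : Fin 3) 1 (by decide) (fun _ => u)
      (fun i _ _ _ => h3) (fun i _ j _ hi hi' hj hj' hij => by omega)
    rw [pow_two] at h2
    let tt : Perm (Fin 3) := swap 0 1
    let γ : alternatingGroup (Fin 3) →* P := MonoidHom.mk' (fun σ => c * Φ σ * c) fun σ τ => by
      rw [map_mul]
      calc c * (Φ σ * Φ τ) * c = c * Φ σ * 1 * Φ τ * c := by group
        _ = c * Φ σ * (c * c) * Φ τ * c := by rw [h2]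
        _ = _ := by group
    let δ : alternatingGroup (Fin 3) →* P := Φ.comp (MonoidHom.mk'
      (fun σ => (⟨tt * σ.1 * tt, by
        rw [Perm.mem_alternatingGroup, map_mul, map_mul, σ.2, mul_one, Int.units_mul_self]⟩ :
        alternatingGroup (Fin 3))) fun σ τ => Subtype.ext (by
        simp only [Subgroup.coe_mul, tt, mul_assoc, swap_mul_self_mul]))
    have hγδ : γ = δ := hom_ext_alt (0 : Fin 3) 1 (by decide) γ δ fun i hia hib => by
      obtain rfl : i = 2 := by omega
      change c * Φ _ * c = Φ _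
      rw [hΦ 2 (by decide) (by decide)]
      have e : (Φ ⟨tri 0 1 2, sign_tri (by decide) (by decide)⟩)⁻¹ = c * u * c := by
        rw [hΦ 2 (by decide) (by decide)]
        exact (eq_inv_of_mul_eq_one_left h1).symm
      rw [← e, ← map_inv]
      exact congrArg Φ (Subtype.ext (show (tri 0 1 2 : Perm (Fin 3))⁻¹ = swap 0 1 * tri 0 1 2 * swap 0 1 by decide))
    obtain ⟨Ψ, hΨ, hΨt⟩ := extend_sym Φ tt (swap_mul_self 0 1) (Perm.sign_swap (by decide)) c h2
      fun σ τ e => (DFunLike.congr_fun hγδ σ).trans (congrArg Φ (Subtype.ext e.symm))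
    refine ⟨Ψ, fun i => ?_⟩
    fin_cases i
    · exact (hΨ ⟨tri 0 1 2, sign_tri (by decide) (by decide)⟩).trans (hΦ 2 (by decide) (by decide))
    · exact hΨt
  · refine sym_closure_top _ ?_ (Subgroup.subset_closure ⟨1, rfl⟩) (Perm.sign_swap (by decide))
    rw [← altOn_univ]
    refine (altOn_le_closure (Finset.mem_univ (0 : Fin 3)) (Finset.mem_univ 1) (by decide)).trans
      ((Subgroup.closure_le _).2 ?_)
    rintro _ ⟨i, -, hia, hib, rfl⟩
    obtain rfl : i = 2 := by omega
    exact Subgroup.subset_closure ⟨0, rfl⟩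

theorem has28_sym_four : Has28 (Perm (Fin 4)) := by
  refine has28_of_inverse [FreeGroup.of 0 ^ 3, FreeGroup.of 1 ^ 2,
      (FreeGroup.of 0 * (FreeGroup.of 1 * FreeGroup.of 0 * FreeGroup.of 1)) ^ 2] (by simp)
    ![tri 0 1 2, swap 2 3] ?_ (fun P _ π hπ => ?_) ?_
  · simp only [List.forall_mem_cons, List.not_mem_nil, IsEmpty.forall_iff, forall_const, and_true,
      map_pow, map_mul, FreeGroup.lift_apply_of, Matrix.cons_val_zero, Matrix.cons_val_one]
    decide
  · simp only [List.forall_mem_cons, map_pow, map_mul] at hπ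
    obtain ⟨h3, h2, h1, -⟩ := hπ
    set u := π (FreeGroup.of 0)
    set c := π (FreeGroup.of 1)
    rw [pow_two c] at h2
    have h1' : ((c * u * c) * u) ^ 2 = 1 := by
      have : ((c * u * c) * u) ^ 2 = u⁻¹ * (u * (c * u * c)) ^ 2 * u := by
        rw [pow_two, pow_two]; group
      rw [this, h1]; group
    have hci : c⁻¹ = c := inv_eq_of_mul_eq_one_right h2
    obtain ⟨Φ, hΦ⟩ := exists_hom_alt (0 : Fin 4) 1 (by decide) (fun i => if i = 2 then u else c * u * c)
      (fun i _ _ _ => by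
        split_ifs
        · exact h3
        · have e := conj_pow (i := 3) (a := c) (b := u)
          rw [hci, h3, mul_one, h2] at e
          exact e)
      (fun i _ j _ hi hi' hj hj' hij => by
        have hi2 : i = 2 ∨ i = 3 := by omega
        have hj2 : j = 2 ∨ j = 3 := by omega
        rcases hi2 with rfl | rfl <;> rcases hj2 with rfl | rfl
        · exact absurd rfl hij
        · exact h1
        · exact h1'
        · exact absurd rfl hij)
    let tt : Perm (Fin 4) := swap 2 3
    let γ : alternatingGroup (Fin 4) →* P := MonoidHom.mk' (fun σ => c * Φ σ * c) fun σ τ => by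
      rw [map_mul]
      calc c * (Φ σ * Φ τ) * c = c * Φ σ * 1 * Φ τ * c := by group
        _ = c * Φ σ * (c * c) * Φ τ * c := by rw [h2]
        _ = _ := by group
    let δ : alternatingGroup (Fin 4) →* P := Φ.comp (MonoidHom.mk'
      (fun σ => (⟨tt * σ.1 * tt, by
        rw [Perm.mem_alternatingGroup, map_mul, map_mul, σ.2, mul_one, Int.units_mul_self]⟩ :
        alternatingGroup (Fin 4))) fun σ τ => Subtype.ext (by
        simp only [Subgroup.coe_mul, tt, mul_assoc, swap_mul_self_mul]))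
    have hγδ : γ = δ := hom_ext_alt (0 : Fin 4) 1 (by decide) γ δ fun i hia hib => by
      obtain rfl | rfl : i = 2 ∨ i = 3 := by omega
      · change c * Φ _ * c = Φ _
        rw [hΦ 2 (by decide) (by decide), if_pos rfl]
        refine ((hΦ 3 (by decide) (by decide)).trans (if_neg (by decide))).symm.trans ?_
        exact congrArg Φ (Subtype.ext (show (tri 0 1 3 : Perm (Fin 4)) = swap 2 3 * tri 0 1 2 * swap 2 3 by decide))
      · change c * Φ _ * c = Φ _
        rw [hΦ 3 (by decide) (by decide), if_neg (by decide)]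
        refine Eq.trans (b := u) ?_ ?_
        · rw [← mul_assoc, ← mul_assoc, h2, one_mul, mul_assoc, h2, mul_one]
        · refine ((hΦ 2 (by decide) (by decide)).trans (if_pos rfl)).symm.trans ?_
          exact congrArg Φ (Subtype.ext (show (tri 0 1 2 : Perm (Fin 4)) = swap 2 3 * tri 0 1 3 * swap 2 3 by decide))
    obtain ⟨Ψ, hΨ, hΨt⟩ := extend_sym Φ tt (swap_mul_self 2 3) (Perm.sign_swap (by decide)) c h2
      fun σ τ e => (DFunLike.congr_fun hγδ σ).trans (congrArg Φ (Subtype.ext e.symm))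
    refine ⟨Ψ, fun i => ?_⟩
    fin_cases i
    · exact (hΨ ⟨tri 0 1 2, sign_tri (by decide) (by decide)⟩).trans
        ((hΦ 2 (by decide) (by decide)).trans (if_pos rfl))
    · exact hΨt
  · refine sym_closure_top _ ?_ (Subgroup.subset_closure ⟨1, rfl⟩) (Perm.sign_swap (by decide))
    rw [← altOn_univ]
    refine (altOn_le_closure (Finset.mem_univ (0 : Fin 4)) (Finset.mem_univ 1) (by decide)).trans
      ((Subgroup.closure_le _).2 ?_)
    rintro _ ⟨i, -, hia, hib, rfl⟩
    obtain rfl | rfl : i = 2 ∨ i = 3 := by omega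
    · exact Subgroup.subset_closure ⟨0, rfl⟩
    · have e : tri (0 : Fin 4) 1 3 = swap 2 3 * tri 0 1 2 * swap 2 3 := by decide
      rw [e]
      exact Subgroup.mul_mem _ (Subgroup.mul_mem _ (Subgroup.subset_closure ⟨1, rfl⟩)
        (Subgroup.subset_closure ⟨0, rfl⟩)) (Subgroup.subset_closure ⟨1, rfl⟩)

/-- All degrees up to four. -/
theorem has28_tiny {n : ℕ} (hn : n ≤ 4) :
    Has28 (Perm (Fin n)) ∧ Has28 (alternatingGroup (Fin n)) := by
  interval_cases n
  · haveI : Subsingleton (Perm (Fin 0)) := ⟨fun σ τ => Equiv.ext fun x => x.elim0⟩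
    exact ⟨has28_of_subsingleton _, has28_of_subsingleton _⟩
  · haveI : Subsingleton (Perm (Fin 1)) := ⟨fun σ τ => Equiv.ext fun x => Subsingleton.elim _ _⟩
    exact ⟨has28_of_subsingleton _, has28_of_subsingleton _⟩
  · haveI : Subsingleton (alternatingGroup (Fin 2)) :=
      ⟨fun σ τ => Subtype.ext ((by decide : ∀ a b : Perm (Fin 2), Perm.sign a = 1 → Perm.sign b = 1 → a = b)
        σ.1 τ.1 σ.2 τ.2)⟩
    exact ⟨has28_sym_two, has28_of_subsingleton _⟩
  · exact ⟨has28_sym_three, has28_alt_three⟩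
  · exact ⟨has28_sym_four, has28_alt_four⟩

end CfsgLib.AltPres54
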